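import Groth.Agent.DimOneSep.Ext
import Groth.Prelude.Def_Flat
import Mathlib.AlgebraicGeometry.Morphisms.QuasiFinite
import Mathlib.RingTheory.NoetherNormalization

/-!
# Parameters on open subsets of curves
-/

set_option autoImplicit false
set_option linter.style.haveILetI false
set_option backward.isDefEq.respectTransparency false
set_option backward.isDefEq.respectTransparency.types false
universe u

open CategoryTheory CategoryTheory.Limits AlgebraicGeometry Polynomial

namespace DimOneSep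

/-- A point strictly under another one is closed. -/
def DimLEOne (X : Type u) [TopologicalSpace X] : Prop :=
  ∀ x y z : X, x ⤳ y → y ⤳ z → x ≠ y → y = z

theorem dimLEOne_of_localDim {X : Type u} [TopologicalSpace X] [T0Space X]
    (h : ∀ x : X, FlatMor.localDim X x ≤ 1) : DimLEOne X := by
  intro x y z hxy hyz hne
  by_contra hne'
  have hU : ∀ U : TopologicalSpace.Opens X, z ∈ U → (2 : WithBot ℕ∞) ≤ topologicalKrullDim (U : Set X) := by
    intro U hz
    have hy : y ∈ U := hyz.mem_open U.2 hz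
    have hx : x ∈ U := hxy.mem_open U.2 hy
    let c : ↥(U : Set X) → TopologicalSpace.IrreducibleCloseds ↥(U : Set X) := fun w =>
      ⟨closure {w}, isIrreducible_singleton.closure, isClosed_closure⟩
    have hlt : ∀ v w : ↥(U : Set X), v ⤳ w → v ≠ w → c w < c v := fun v w hvw hne =>
      lt_of_le_of_ne (hvw.closure_subset) fun he =>
        hne (hvw.antisymm (show w ⤳ v from specializes_iff_closure_subset.2
          (show closure {v} ⊆ closure {w} from ((congrArg (fun s : TopologicalSpace.IrreducibleCloseds ↥(U : Set X) =>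
            (s : Set ↥(U : Set X))) he).ge : ((c v : Set ↥(U : Set X))) ⊆ (c w : Set ↥(U : Set X)))))).eq
    let l : LTSeries (TopologicalSpace.IrreducibleCloseds ↥(U : Set X)) :=
      { length := 2
        toFun := ![c ⟨z, hz⟩, c ⟨y, hy⟩, c ⟨x, hx⟩]
        step := fun i => by
          fin_cases i
          · exact hlt ⟨y, hy⟩ ⟨z, hz⟩ ((subtype_specializes_iff _ _).2 hyz) fun e => hne' (congrArg Subtype.val e)
          · exact hlt ⟨x, hx⟩ ⟨y, hy⟩ ((subtype_specializes_iff _ _).2 hxy) fun e => hne (congrArg Subtype.val e) }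
    exact (Order.LTSeries.length_le_krullDim l : (_ : WithBot ℕ∞) ≤ _)
  have h2 : (2 : WithBot ℕ∞) ≤ FlatMor.localDim X z := le_iInf fun U => hU U.1 U.2
  exact absurd (h2.trans (h z)) (by decide)

theorem DimLEOne.of_injective {X Y : Type u} [TopologicalSpace X] [TopologicalSpace Y] (hY : DimLEOne Y) (f : X → Y)
    (hf : Continuous f) (hinj : Function.Injective f) : DimLEOne X := fun _ _ _ h1 h2 hne =>
  hinj (hY _ _ _ (h1.map hf) (h2.map hf) (hinj.ne hne))

theorem isMaximal_of_lt {B : Type u} [CommRing B] (h : DimLEOne (PrimeSpectrum B)) (p q : Ideal B) (hp : p.IsPrime)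
    (hq : q.IsPrime) (hpq : p < q) : q.IsMaximal := by
  obtain ⟨m, hm, hqm⟩ := q.exists_le_maximal hq.ne_top
  have := h ⟨p, hp⟩ ⟨q, hq⟩ ⟨m, hm.isPrime⟩ ((PrimeSpectrum.le_iff_specializes _ _).1 hpq.le)
    ((PrimeSpectrum.le_iff_specializes _ _).1 hqm) fun e => hpq.ne (congrArg PrimeSpectrum.asIdeal e)
  rw [show q = m from congrArg PrimeSpectrum.asIdeal this]
  exact hm

variable (k : Type u) [Field k]

/-- The affine line. -/
noncomputable abbrev line : Scheme.{u} := Spec (CommRingCat.of k[X])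

/-- Its structure morphism. -/
noncomputable abbrev lineTo : line k ⟶ Spec (CommRingCat.of k) :=
  Spec.map (CommRingCat.ofHom (algebraMap k k[X]))

/-- Noether normalisation of a ring of dimension at most one. -/
theorem exists_finite_parameter (R : Type u) [CommRing R] [Algebra k R] [Algebra.FiniteType k R]
    (h : ∀ p q : Ideal R, p.IsPrime → q.IsPrime → p < q → q.IsMaximal) :
    ∃ φ : k[X] →ₐ[k] R, φ.toRingHom.Finite := by
  by_cases hR : Nontrivial R
  swap
  · haveI : Subsingleton R := not_nontrivial_iff_subsingleton.1 hR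
    exact ⟨aeval 0, RingHom.Finite.of_surjective _ fun x => ⟨0, Subsingleton.elim _ _⟩⟩
  obtain ⟨s, g, hg, hfin⟩ := exists_finite_inj_algHom_of_fg k R
  rcases Nat.lt_or_ge s 2 with hs | hs
  · -- `k[X]` surjects onto the polynomial ring in at most one variable
    let π : k[X] →ₐ[k] MvPolynomial (Fin s) k := aeval (if h : 0 < s then MvPolynomial.X ⟨0, h⟩ else 0)
    have hπ : Function.Surjective π := by
      have htop : π.range = ⊤ := by
        refine top_le_iff.1 ((MvPolynomial.adjoin_range_X (R := k) (σ := Fin s)).ge.trans (Algebra.adjoin_le ?_))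
        rintro _ ⟨i, rfl⟩
        refine ⟨X, ?_⟩
        change π X = MvPolynomial.X i
        simp only [π, aeval_X, dif_pos i.pos]
        exact congrArg MvPolynomial.X (Fin.ext (by omega))
      exact (AlgHom.range_eq_top π).1 htop
    exact ⟨g.comp π, RingHom.Finite.comp hfin (RingHom.Finite.of_surjective _ hπ)⟩
  · exfalso
    letI := g.toRingHom.toAlgebra
    haveI : Algebra.IsIntegral (MvPolynomial (Fin s) k) R := ⟨hfin.to_isIntegral⟩
    let P : Fin 3 → Ideal (MvPolynomial (Fin s) k) := fun i =>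
      RingHom.ker (MvPolynomial.aeval (fun j : Fin s => if j.val < i.val then (0 : MvPolynomial (Fin s) k)
        else MvPolynomial.X j)).toRingHom
    have hP : ∀ i, (P i).IsPrime := fun i => RingHom.ker_isPrime _
    have hmem : ∀ (i : Fin 3) (j : Fin s), MvPolynomial.X j ∈ P i ↔ j.val < i.val := fun i j => by
      simp only [P, RingHom.mem_ker, AlgHom.toRingHom_eq_coe, RingHom.coe_coe, MvPolynomial.aeval_X]
      split <;> simp [*, MvPolynomial.X_ne_zero]
    have hle : ∀ i i' : Fin 3, i ≤ i' → P i ≤ P i' := fun i i' hii f hf => by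
      simp only [P, RingHom.mem_ker, AlgHom.toRingHom_eq_coe, RingHom.coe_coe] at hf ⊢
      have : (MvPolynomial.aeval (fun j : Fin s => if j.val < i'.val then (0 : MvPolynomial (Fin s) k) else MvPolynomial.X j)).comp
          (MvPolynomial.aeval (fun j : Fin s => if j.val < i.val then (0 : MvPolynomial (Fin s) k) else MvPolynomial.X j)) =
          MvPolynomial.aeval (fun j : Fin s => if j.val < i'.val then (0 : MvPolynomial (Fin s) k) else MvPolynomial.X j) := by
        refine MvPolynomial.algHom_ext fun j => ?_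
        have := hii
        simp only [AlgHom.comp_apply, MvPolynomial.aeval_X]
        split_ifs with h1 h2 <;> simp [*]
        omega
      rw [← this, AlgHom.comp_apply, hf, map_zero]
    have hker : RingHom.ker (algebraMap (MvPolynomial (Fin s) k) R) ≤ P 0 := by
      rw [(RingHom.injective_iff_ker_eq_bot _).1 (show Function.Injective (algebraMap (MvPolynomial (Fin s) k) R) from hg)]; exact bot_le
    haveI := hP 0
    haveI := hP 1
    obtain ⟨Q₀, -, hQ₀, hc0⟩ := Ideal.exists_ideal_over_prime_of_isIntegral (P 0) (⊥ : Ideal R) hker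
    obtain ⟨Q₁, hle01, hQ₁, hc1⟩ := Ideal.exists_ideal_over_prime_of_isIntegral (P 1) Q₀ (hc0.le.trans (hle 0 1 (by decide)))
    have hlt : ∀ i i' : Fin 3, i < i' → ¬P i' ≤ P i := fun i i' hii hle' => by
      have hj : i.val < s := by omega
      have := hle' ((hmem i' ⟨i.val, hj⟩).2 hii)
      rw [hmem] at this
      exact lt_irrefl _ this
    haveI := h Q₀ Q₁ hQ₀ hQ₁ (lt_of_le_of_ne hle01 fun e => hlt 0 1 (by decide) (hc1.symm.trans_le (e ▸ hc0.le)))
    have hm1 := Ideal.isMaximal_comap_of_isIntegral_of_isMaximal (R := MvPolynomial (Fin s) k) Q₁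
    rw [hc1] at hm1
    exact hlt 1 2 (by decide) (hm1.eq_of_le (Ideal.IsPrime.ne_top (hP 2)) (hle 1 2 (by decide))).ge

variable {k}

/-- An irreducible affine neighbourhood of a generic point. -/
theorem exists_irreducible_affine {X : Scheme.{u}} [IsLocallyNoetherian X] (η : X) (hη : ∀ x, x ⤳ η → x = η) :
    ∃ V : X.Opens, IsAffineOpen V ∧ η ∈ V ∧ ∀ x ∈ V, η ⤳ x := by
  obtain ⟨V, hV, hηV, -⟩ := exists_isAffineOpen_mem_and_subset (U := ⊤) (x := η) trivial
  haveI : IsNoetherianRing Γ(X, V) := IsLocallyNoetherian.component_noetherian ⟨V, hV⟩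
  let p := hV.primeIdealOf ⟨η, hηV⟩
  have hpη : hV.fromSpec p = η := hV.fromSpec_primeIdealOf ⟨η, hηV⟩
  have hmin : p.asIdeal ∈ minimalPrimes Γ(X, V) := by
    refine ⟨⟨p.isPrime, bot_le⟩, fun q hq hqp => ?_⟩
    haveI := hq.1
    have hsp : hV.fromSpec ⟨q, hq.1⟩ ⤳ η :=
      hpη ▸ ((PrimeSpectrum.le_iff_specializes (⟨q, hq.1⟩ : PrimeSpectrum _) p).1 hqp).map hV.fromSpec.continuous
    have he := (hη _ hsp).trans (hV.fromSpec_primeIdealOf ⟨η, hηV⟩).symm
    exact (congrArg PrimeSpectrum.asIdeal (hV.fromSpec.isOpenEmbedding.injective he)).ge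
  classical
  have hfin := (minimalPrimes.finite_of_isNoetherianRing Γ(X, V))
  haveI := hfin.fintype
  have hc : ∀ q : minimalPrimes Γ(X, V), ∃ c, c ∉ p.asIdeal ∧ ((q : Ideal _) ≠ p.asIdeal → c ∈ (q : Ideal _)) := fun q => by
    by_cases hq : (q : Ideal _) = p.asIdeal
    · exact ⟨1, fun h1 => p.isPrime.ne_top ((Ideal.eq_top_iff_one _).2 h1), fun h1 => absurd hq h1⟩
    · obtain ⟨c, hc, hcp⟩ := Set.not_subset.1 (fun hle => hq (le_antisymm hle (hmin.2 q.2.1 hle)))
      exact ⟨c, hcp, fun _ => hc⟩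
  choose c hcp hcq using hc
  refine ⟨X.basicOpen (∏ q, c q), hV.basicOpen _, ?_, fun x hx => ?_⟩
  · refine hpη ▸ (show p ∈ hV.fromSpec ⁻¹ᵁ X.basicOpen (∏ q, c q) from ?_)
    rw [hV.fromSpec_preimage_basicOpen]
    change ∏ q, c q ∉ p.asIdeal
    rw [p.isPrime.prod_mem_iff]
    rintro ⟨q, -, hq⟩
    exact hcp q hq
  · have hxV : x ∈ V := X.basicOpen_le _ hx
    let px := hV.primeIdealOf ⟨x, hxV⟩
    have hpx : hV.fromSpec px = x := hV.fromSpec_primeIdealOf ⟨x, hxV⟩
    replace hx : px ∈ hV.fromSpec ⁻¹ᵁ X.basicOpen (∏ q, c q) := show hV.fromSpec px ∈ X.basicOpen _ from hpx.symm ▸ hx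
    rw [hV.fromSpec_preimage_basicOpen] at hx
    obtain ⟨q, hq, hqx⟩ := Ideal.exists_minimalPrimes_le (bot_le : ⊥ ≤ (hV.primeIdealOf ⟨x, hxV⟩).asIdeal)
    have hqp : q = p.asIdeal := by
      by_contra hne
      exact hx (hqx (Ideal.prod_mem _ (Finset.mem_univ (⟨q, hq⟩ : minimalPrimes Γ(X, V))) (hcq ⟨q, hq⟩ hne)))
    have := ((PrimeSpectrum.le_iff_specializes p px).1 (hqp ▸ hqx : p.asIdeal ≤ _)).map hV.fromSpec.continuous
    rwa [hpη, hpx] at this

/-- An affine open of a curve has a finite parameter. -/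
theorem exists_affine_parameter {X : Scheme.{u}} (μ : X ⟶ Spec (CommRingCat.of k)) [LocallyOfFiniteType μ]
    (hX : DimLEOne X) {V : X.Opens} (hV : IsAffineOpen V) :
    ∃ τ : (V : Scheme.{u}) ⟶ line k, τ ≫ lineTo k = V.ι ≫ μ ∧ LocallyQuasiFinite τ := by
  haveI : IsAffine (V : Scheme.{u}) := hV
  let R : CommRingCat.{u} := Γ((V : Scheme.{u}), ⊤)
  let e := (V : Scheme.{u}).isoSpec
  let ψ := Spec.preimage (e.inv ≫ V.ι ≫ μ)
  letI : Algebra k R := ψ.hom.toAlgebra
  haveI : Algebra.FiniteType k R := by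
    have : LocallyOfFiniteType (Spec.map ψ) := by rw [Spec.map_preimage]; infer_instance
    exact (HasRingHomProperty.Spec_iff (P := @LocallyOfFiniteType)).1 this
  have hd : DimLEOne (PrimeSpectrum R) := hX.of_injective (fun p => (e.inv ≫ V.ι) p) (e.inv ≫ V.ι).continuous
    (V.ι.isOpenEmbedding.injective.comp e.inv.homeomorph.injective)
  obtain ⟨φ, hφ⟩ := exists_finite_parameter k R (isMaximal_of_lt hd)
  refine ⟨e.hom ≫ Spec.map (CommRingCat.ofHom φ.toRingHom), ?_, ?_⟩
  · rw [Category.assoc, ← Spec.map_comp, ← CommRingCat.ofHom_comp, AlgHom.toRingHom_eq_coe, show (φ : k[X] →+* R).comp (algebraMap k k[X]) = algebraMap k R from φ.comp_algebraMap, RingHom.algebraMap_toAlgebra,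
      CommRingCat.ofHom_hom, Spec.map_preimage, Iso.hom_inv_id_assoc]
  · haveI : LocallyQuasiFinite (Spec.map (CommRingCat.ofHom φ.toRingHom)) :=
      (HasRingHomProperty.Spec_iff (P := @LocallyQuasiFinite)).2 (RingHom.QuasiFinite.of_finite hφ)
    infer_instance

/-- A parameter near finitely many generic points of a curve. -/
theorem exists_lqf_open {X : Scheme.{u}} (μ : X ⟶ Spec (CommRingCat.of k)) [LocallyOfFiniteType μ]
    (hX : DimLEOne X) (s : Set X) (hmax : ∀ η ∈ s, ∀ x, x ⤳ η → x = η) :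
    ∃ (W : X.Opens) (τ : (W : Scheme.{u}) ⟶ line k), s ⊆ W ∧ τ ≫ lineTo k = W.ι ≫ μ ∧ LocallyQuasiFinite τ := by
  haveI := LocallyOfFiniteType.isLocallyNoetherian μ
  choose V hV hηV hVirr using fun η : s => exists_irreducible_affine η.1 (hmax η.1 η.2)
  choose τ hτ hτq using fun η : s => exists_affine_parameter μ hX (hV η)
  let 𝒰 := Scheme.Opens.iSupOpenCover V
  let τ' : ((⨆ η, V η : X.Opens) : Scheme.{u}) ⟶ line k := 𝒰.glueMorphisms τ fun η η' => by
    by_cases he : η = η'
    · subst he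
      have : pullback.fst (𝒰.f η) (𝒰.f η) = pullback.snd (𝒰.f η) (𝒰.f η) :=
        (cancel_mono (𝒰.f η)).1 pullback.condition
      rw [this]
    · haveI : IsEmpty ↥(pullback (𝒰.f η) (𝒰.f η')) := ⟨fun x => by
        have h1 := congrArg (fun φ : pullback (𝒰.f η) (𝒰.f η') ⟶ _ =>
          (Scheme.Opens.ι (⨆ η, V η)) (φ x)) pullback.condition
        have hval : ∀ (i : s) (v : 𝒰.X i), (Scheme.Opens.ι (⨆ η, V η)) ((𝒰.f i) v) ∈ V i := fun i v => by
          change (X.homOfLE (le_iSup V i) ≫ Scheme.Opens.ι (⨆ η, V η)) v ∈ V i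
          rw [X.homOfLE_ι]
          exact v.2
        simp only [Scheme.Hom.comp_apply] at h1
        have hy := hval η ((pullback.fst (𝒰.f η) (𝒰.f η')) x)
        have hy' := hval η' ((pullback.snd (𝒰.f η) (𝒰.f η')) x)
        rw [← h1] at hy'
        have hη' : η'.1 ∈ V η ∧ η.1 ∈ V η' := ⟨(hVirr η' _ hy').mem_open (V η).2 hy, (hVirr η _ hy).mem_open (V η').2 hy'⟩
        exact he (Subtype.ext (hmax η'.1 η'.2 _ (hVirr η _ hη'.1)))⟩
      exact (isInitialOfIsEmpty.{u}).hom_ext _ _
  refine ⟨⨆ η, V η, τ', fun η hη => TopologicalSpace.Opens.mem_iSup.2 ⟨⟨η, hη⟩, hηV ⟨η, hη⟩⟩, ?_, ?_⟩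
  · refine 𝒰.hom_ext _ _ fun η => ?_
    rw [← Category.assoc, Scheme.Cover.ι_glueMorphisms, hτ]
    change _ = X.homOfLE (le_iSup V η) ≫ _ ≫ _
    rw [X.homOfLE_ι_assoc]
  · refine (IsZariskiLocalAtSource.iff_of_openCover (P := @LocallyQuasiFinite) 𝒰).2 fun η => ?_
    rw [Scheme.Cover.ι_glueMorphisms]
    exact hτq η

section Local

variable {B : Type u} [CommRing B] [Algebra k B] [Algebra.FiniteType k B] [IsReduced B]

/-- The structure morphism of a localisation. -/
noncomputable abbrev awayι (b : B) : Spec (CommRingCat.of (Localization.Away b)) ⟶ Spec (CommRingCat.of B) :=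
  Spec.map (CommRingCat.ofHom (algebraMap B (Localization.Away b)))

/-- The ring homomorphism of a morphism to an affine scheme. -/
noncomputable def toHom {R : Scheme.{u}} {A : CommRingCat.{u}} (p : R ⟶ Spec A) : A ⟶ Γ(R, ⊤) :=
  (Scheme.ΓSpecIso A).inv ≫ p.appTop

theorem toHom_comp_map {R : Scheme.{u}} {A A' : CommRingCat.{u}} (p : R ⟶ Spec A) (f : A' ⟶ A) :
    toHom (p ≫ Spec.map f) = f ≫ toHom p := by
  rw [toHom, toHom, Scheme.Hom.comp_appTop, ← Category.assoc, ← Scheme.ΓSpecIso_inv_naturality, Category.assoc]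

theorem toHom_injective {R : Scheme.{u}} {A : CommRingCat.{u}} {p q : R ⟶ Spec A} (h : toHom p = toHom q) :
    p = q :=
  ext_of_isAffine ((cancel_epi (Scheme.ΓSpecIso A).inv).1 h)

/-- Extension of a parameter over a closed point of an affine curve. -/
theorem exists_local_parameter (hB : DimLEOne (PrimeSpectrum B)) (W : (Spec (CommRingCat.of B)).Opens)
    (τ : (W : Scheme.{u}) ⟶ line k) [LocallyQuasiFinite τ]
    (hτ : τ ≫ lineTo k = W.ι ≫ Spec.map (CommRingCat.ofHom (algebraMap k B)))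
    (z : PrimeSpectrum B) (hz : z.asIdeal.IsMaximal) (hzW : z ∉ W)
    (hgen : ∀ q : PrimeSpectrum B, q.asIdeal ∈ minimalPrimes B → q ∈ W) :
    ∃ (b d : B) (γ : Spec (CommRingCat.of (Localization.Away b)) ⟶ line k)
      (jb : Spec (CommRingCat.of (Localization.Away d)) ⟶ Spec (CommRingCat.of (Localization.Away b)))
      (ja : Spec (CommRingCat.of (Localization.Away d)) ⟶ (W : Scheme.{u})),
      b ∉ z.asIdeal ∧ LocallyQuasiFinite γ ∧ γ ≫ lineTo k = awayι b ≫ Spec.map (CommRingCat.ofHom (algebraMap k B)) ∧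
      (∀ q ∈ minimalPrimes B, b ∉ q → d ∉ q) ∧ jb ≫ awayι b = awayι d ∧ ja ≫ W.ι = awayι d ∧
      ∀ (R : Scheme.{u}) (p q : R ⟶ Spec (CommRingCat.of (Localization.Away d))),
        p ≫ ja ≫ τ = q ≫ ja ≫ τ → p ≫ jb ≫ γ = q ≫ jb ≫ γ := by
  haveI : IsNoetherianRing B := Algebra.FiniteType.isNoetherianRing k B
  classical
  let WS : Set (PrimeSpectrum B) := W.1
  let J := PrimeSpectrum.vanishingIdeal WSᶜ
  have hJ : PrimeSpectrum.zeroLocus (J : Set B) = WSᶜ := by
    rw [PrimeSpectrum.zeroLocus_vanishingIdeal_eq_closure]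
    exact W.2.isClosed_compl.closure_eq
  let S := ((minimalPrimes.finite_of_isNoetherianRing B).subset (Set.sep_subset _ fun q => q ≤ z.asIdeal)).toFinset
  obtain ⟨a, haJ, ha⟩ : ∃ a ∈ J, ∀ q ∈ S, a ∉ q := by
    by_contra! hcon
    have hsub : (J : Set B) ⊆ ⋃ q ∈ (S : Set (Ideal B)), (q : Set B) := fun a ha => by
      obtain ⟨q, hq, haq⟩ := hcon a ha
      exact Set.mem_biUnion hq haq
    obtain ⟨q, hq, hJq⟩ := (Ideal.subset_union_prime ⊥ ⊥ fun q hq _ _ => by
      rw [Set.Finite.mem_toFinset] at hq; exact hq.1.1.1).1 hsub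
    rw [Set.Finite.mem_toFinset] at hq
    haveI := hq.1.1.1
    have hmem : (⟨q, hq.1.1.1⟩ : PrimeSpectrum B) ∈ PrimeSpectrum.zeroLocus (J : Set B) := hJq
    rw [hJ] at hmem
    exact hmem (hgen _ hq.1)
  have haz : a ∈ z.asIdeal := (show z ∈ PrimeSpectrum.zeroLocus (J : Set B) by rw [hJ]; exact hzW) haJ
  have hsubW : Set.range (awayι a) ⊆ Set.range W.ι := by
    rw [Scheme.Opens.range_ι]
    rintro _ ⟨x, rfl⟩
    by_contra hxW
    have hxJ : a ∈ (PrimeSpectrum.comap (algebraMap B (Localization.Away a)) x).asIdeal :=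
      (show PrimeSpectrum.comap (algebraMap B (Localization.Away a)) x ∈ PrimeSpectrum.zeroLocus (J : Set B) by
        rw [hJ]; exact hxW) haJ
    exact x.isPrime.ne_top (x.asIdeal.eq_top_of_isUnit_mem hxJ (IsLocalization.Away.algebraMap_isUnit a))
  haveI : IsOpenImmersion (awayι a) := IsOpenImmersion.of_isLocalization a
  let la := IsOpenImmersion.lift W.ι (awayι a) hsubW
  have hla : la ≫ W.ι = awayι a := IsOpenImmersion.lift_fac _ _ _
  haveI : IsOpenImmersion (la ≫ W.ι) := by rw [hla]; infer_instance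
  haveI : IsOpenImmersion la := IsOpenImmersion.of_comp la W.ι
  let φ₀ : k[X] →+* Localization.Away a := (Spec.preimage (la ≫ τ)).hom
  have hφ₀ : Spec.map (CommRingCat.ofHom φ₀) = la ≫ τ := by rw [CommRingCat.ofHom_hom, Spec.map_preimage]
  have hcomm : φ₀.comp (algebraMap k k[X]) = algebraMap k (Localization.Away a) := by
    have h : CommRingCat.ofHom (algebraMap k k[X]) ≫ CommRingCat.ofHom φ₀ =
        CommRingCat.ofHom (algebraMap k B) ≫ CommRingCat.ofHom (algebraMap B (Localization.Away a)) :=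
      Spec.map_injective (by rw [Spec.map_comp, Spec.map_comp, hφ₀, Category.assoc, hτ, reassoc_of% hla])
    rw [← CommRingCat.ofHom_comp, ← CommRingCat.ofHom_comp, ← IsScalarTower.algebraMap_eq] at h
    exact congrArg CommRingCat.Hom.hom h
  let φ : k[X] →ₐ[k] Localization.Away a := { φ₀ with commutes' := fun c => congrArg (fun f : k →+* _ => f c) hcomm }
  have hφ : φ.toRingHom.QuasiFinite := by
    have : LocallyQuasiFinite (Spec.map (CommRingCat.ofHom φ₀)) := by rw [hφ₀]; infer_instance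
    exact (HasRingHomProperty.Spec_iff (P := @LocallyQuasiFinite)).1 this
  haveI := hz
  obtain ⟨b, d, γ, hbz, hγ, hd, ρa, ρb, hρa, hρb, H⟩ := exists_extension z.asIdeal (isMaximal_of_lt hB) a haz
    (fun q hq hqz => ha q ((Set.Finite.mem_toFinset _).2 ⟨hq, hqz⟩)) φ hφ
  refine ⟨b, d, Spec.map (CommRingCat.ofHom γ.toRingHom), Spec.map (CommRingCat.ofHom ρb),
    Spec.map (CommRingCat.ofHom ρa) ≫ la, hbz, (HasRingHomProperty.Spec_iff (P := @LocallyQuasiFinite)).2 hγ, ?_, hd,
    ?_, ?_, fun R p q hpq => ?_⟩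
  · rw [← Spec.map_comp, ← Spec.map_comp, ← CommRingCat.ofHom_comp, ← CommRingCat.ofHom_comp, AlgHom.toRingHom_eq_coe,
      show (γ : k[X] →+* _).comp (algebraMap k k[X]) = algebraMap k (Localization.Away b) from γ.comp_algebraMap,
      ← IsScalarTower.algebraMap_eq]
  · rw [← Spec.map_comp, ← CommRingCat.ofHom_comp, hρb]
  · rw [Category.assoc, hla, ← Spec.map_comp, ← CommRingCat.ofHom_comp, hρa]
  · rw [Category.assoc, ← hφ₀, ← Spec.map_comp] at hpq
    rw [← Spec.map_comp]
    apply toHom_injective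
    have h := congrArg (fun m : R ⟶ line k => (toHom m).hom) hpq
    simp only [toHom_comp_map, CommRingCat.hom_comp, CommRingCat.hom_ofHom] at h ⊢
    apply CommRingCat.hom_ext
    simp only [CommRingCat.hom_comp, CommRingCat.hom_ofHom]
    exact H _ _ _ h

end Local

end DimOneSep
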