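import Groth.Agent.DimOneSep.Pow
import Mathlib.RingTheory.QuasiFinite.Basic
import Mathlib.RingTheory.RingHom.QuasiFinite
import Mathlib.RingTheory.Jacobson.Ring
import Mathlib.RingTheory.Algebraic.Integral
import Mathlib.RingTheory.Spectrum.Prime.Noetherian

/-!
# Extending a parameter of a curve over a point: commutative algebra
-/

set_option autoImplicit false
universe u

open Polynomial

namespace DimOneSep

variable {k : Type u} [Field k]

/-- `∑ fᵢ Pⁱ Qⁿ⁻ⁱ` does not vanish when `deg P < deg Q`. -/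
theorem homogenize_ne_zero {f P Q : k[X]} (hf : f ≠ 0) (hP : P ≠ 0) (hdeg : P.natDegree < Q.natDegree) :
    ∑ i ∈ Finset.range (f.natDegree + 1), C (f.coeff i) * P ^ i * Q ^ (f.natDegree - i) ≠ 0 := by
  classical
  have hQ : Q ≠ 0 := ne_zero_of_natDegree_gt hdeg
  have hfi : ∃ i, f.coeff i ≠ 0 := ⟨f.natDegree, leadingCoeff_ne_zero.2 hf⟩
  let i₀ := Nat.find hfi
  have hi₀ : f.coeff i₀ ≠ 0 := Nat.find_spec hfi
  have hi₀' : i₀ ≤ f.natDegree := le_natDegree_of_ne_zero hi₀
  have hd : ∀ i, f.coeff i ≠ 0 → (C (f.coeff i) * P ^ i * Q ^ (f.natDegree - i)).natDegree =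
      i * P.natDegree + (f.natDegree - i) * Q.natDegree := fun i hi => by
    rw [natDegree_mul (mul_ne_zero (C_ne_zero.2 hi) (pow_ne_zero _ hP)) (pow_ne_zero _ hQ),
      natDegree_C_mul hi, natDegree_pow, natDegree_pow]
  intro h
  rw [← Finset.sum_erase_add _ _ (Finset.mem_range.2 (Nat.lt_succ_of_le hi₀') : i₀ ∈ _)] at h
  have hlt : ∀ i ∈ (Finset.range (f.natDegree + 1)).erase i₀,
      (C (f.coeff i) * P ^ i * Q ^ (f.natDegree - i)).degree <
        (C (f.coeff i₀) * P ^ i₀ * Q ^ (f.natDegree - i₀)).degree := by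
    intro i hi
    rw [degree_eq_natDegree (mul_ne_zero (mul_ne_zero (C_ne_zero.2 hi₀) (pow_ne_zero _ hP)) (pow_ne_zero _ hQ))]
    by_cases hi0 : f.coeff i = 0
    · rw [hi0, map_zero, zero_mul, zero_mul, degree_zero]
      exact WithBot.bot_lt_coe _
    refine degree_le_natDegree.trans_lt ?_
    rw [hd i hi0, hd i₀ hi₀, Nat.cast_lt]
    have h1 : i₀ < i := lt_of_le_of_ne (Nat.find_min' hfi hi0) (Finset.ne_of_mem_erase hi).symm
    obtain ⟨c, rfl⟩ := Nat.exists_eq_add_of_le h1.le
    have h2 : i₀ + c ≤ f.natDegree := le_natDegree_of_ne_zero hi0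
    rw [show f.natDegree - i₀ = (f.natDegree - (i₀ + c)) + c by omega, add_mul, add_mul]
    have h3 : c * P.natDegree < c * Q.natDegree := Nat.mul_lt_mul_of_pos_left hdeg (by omega)
    omega
  have := degree_sum_le ((Finset.range (f.natDegree + 1)).erase i₀)
    (fun i => C (f.coeff i) * P ^ i * Q ^ (f.natDegree - i))
  rw [eq_neg_of_add_eq_zero_left h, degree_neg] at this
  refine absurd this (not_le.2 ?_)
  refine (Finset.sup_lt_iff ?_).2 hlt
  exact bot_lt_iff_ne_bot.2 fun hb => mul_ne_zero (mul_ne_zero (C_ne_zero.2 hi₀) (pow_ne_zero _ hP))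
    (pow_ne_zero _ hQ) (degree_eq_bot.1 hb)

theorem isField_of_algebraic_quotient {R : Type u} [CommRing R] [Algebra k R] (q : Ideal R) [q.IsPrime]
    [Algebra.IsIntegral k (R ⧸ q)] : q.IsMaximal :=
  Ideal.Quotient.maximal_of_isField q (isField_of_isIntegral_of_isField' (Field.toIsField k))

variable {B : Type u} [CommRing B] [Algebra k B] [Algebra.FiniteType k B] [IsReduced B]

set_option maxHeartbeats 1000000 in
/-- A parameter on a punctured neighbourhood of a point of a curve yields a parameter at the point,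
compatible with every pair of maps agreeing on the first one. -/
theorem exists_extension (z : Ideal B) [z.IsMaximal]
    (hdim : ∀ p q : Ideal B, p.IsPrime → q.IsPrime → p < q → q.IsMaximal)
    (a : B) (haz : a ∈ z) (ha : ∀ q ∈ minimalPrimes B, q ≤ z → a ∉ q)
    (φ : k[X] →ₐ[k] Localization.Away a) (hφ : φ.toRingHom.QuasiFinite) :
    ∃ (b d : B) (γ : k[X] →ₐ[k] Localization.Away b), b ∉ z ∧ γ.toRingHom.QuasiFinite ∧
      (∀ q ∈ minimalPrimes B, b ∉ q → d ∉ q) ∧
      ∃ (ρa : Localization.Away a →+* Localization.Away d) (ρb : Localization.Away b →+* Localization.Away d),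
        ρa.comp (algebraMap B _) = algebraMap B _ ∧ ρb.comp (algebraMap B _) = algebraMap B _ ∧
          ∀ (R : Type u) [CommRing R] (u v : Localization.Away d →+* R),
            u.comp (ρa.comp φ.toRingHom) = v.comp (ρa.comp φ.toRingHom) →
              u.comp (ρb.comp γ.toRingHom) = v.comp (ρb.comp γ.toRingHom) := by
  classical
  haveI : IsNoetherianRing B := Algebra.FiniteType.isNoetherianRing k B
  let Ba := Localization.Away a
  have hau : IsUnit (algebraMap B Ba a) := IsLocalization.Away.algebraMap_isUnit a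
  have hz : ∀ p : Ideal B, p.IsPrime → p ≤ z → p = z ∨ p ∈ minimalPrimes B := fun p hp hle => by
    refine (eq_or_lt_of_le hle).imp_right fun hlt => ?_
    by_contra hmin
    obtain ⟨q, hq, hqp⟩ := Ideal.exists_minimalPrimes_le (bot_le : ⊥ ≤ p)
    have hne : q ≠ p := fun h => hmin (h ▸ hq)
    exact hlt.ne ((hdim q p hq.1.1 hp (lt_of_le_of_ne hqp hne)).eq_of_le (Ideal.IsMaximal.ne_top ‹_›) hle)
  set t := φ X with ht
  have hφt : ∀ f, φ f = aeval t f := fun f => by
    rw [ht, aeval_algHom_apply, aeval_X_left_apply]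
  letI : Algebra k[X] Ba := φ.toRingHom.toAlgebra
  haveI : Algebra.QuasiFinite k[X] Ba := hφ
  haveI : IsScalarTower k k[X] Ba := IsScalarTower.of_algebraMap_eq fun c => (φ.commutes c).symm
  have hbase : ∀ p : Ideal Ba, p.IsPrime → p.comap (algebraMap B Ba) ≤ z →
      p.comap φ.toRingHom = ⊥ := fun p hp hle => by
    by_contra hne
    haveI := hp
    let P := p.comap φ.toRingHom
    haveI : P.IsMaximal := IsPrime.to_maximal_ideal hne
    haveI : p.LiesOver P := ⟨rfl⟩
    letI := Ideal.Quotient.field P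
    haveI : Module.Finite k (k[X] ⧸ P) := finite_of_finite_type_of_isJacobsonRing k (k[X] ⧸ P)
    haveI : Algebra.QuasiFinite (k[X] ⧸ P) (Ba ⧸ p) := .of_restrictScalars k[X] _ _
    haveI : Module.Finite (k[X] ⧸ P) (Ba ⧸ p) := .of_quasiFinite
    haveI : Module.Finite k (Ba ⧸ p) := Module.Finite.trans (k[X] ⧸ P) _
    let q := p.comap (algebraMap B Ba)
    let ι : (B ⧸ q) →ₐ[k] (Ba ⧸ p) :=
      Ideal.Quotient.liftₐ q ((Ideal.Quotient.mkₐ k p).comp (IsScalarTower.toAlgHom k B Ba)) fun b hb =>
        Ideal.Quotient.eq_zero_iff_mem.2 hb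
    have hι : Function.Injective ι := by
      rw [injective_iff_map_eq_zero]
      intro y hy
      obtain ⟨b, rfl⟩ := Ideal.Quotient.mk_surjective y
      exact Ideal.Quotient.eq_zero_iff_mem.2 ((Ideal.Quotient.eq_zero_iff_mem (I := p)).1 hy)
    haveI : Algebra.IsIntegral k (B ⧸ q) :=
      ⟨fun y => (isIntegral_algHom_iff ι hι).1 (Algebra.IsIntegral.isIntegral _)⟩
    have hqz : q = z := (isField_of_algebraic_quotient (k := k) q).eq_of_le (Ideal.IsMaximal.ne_top ‹_›) hle
    exact hp.ne_top (p.eq_top_of_isUnit_mem (show algebraMap B Ba a ∈ p from (hqz ▸ haz : a ∈ q)) hau)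
  have htr : ∀ p : Ideal Ba, p.IsPrime → p.comap (algebraMap B Ba) ≤ z →
      ∀ f : k[X], f ≠ 0 → aeval t f ∉ p := fun p hp hle f hf hm => by
    refine hf ?_
    have : f ∈ p.comap φ.toRingHom := by rw [Ideal.mem_comap]; change φ f ∈ p; rw [hφt]; exact hm
    rwa [hbase p hp hle] at this
  have hrel : ∀ p : Ideal Ba, p.IsPrime → p.comap (algebraMap B Ba) ≤ z →
      ∃ F : k[X][X], F.coeff 0 ≠ 0 ∧ eval₂ (aeval t).toRingHom (algebraMap B Ba a) F ∈ p := fun p hp hle => by
    haveI := hp
    haveI : p.LiesOver (⊥ : Ideal k[X]) := ⟨(hbase p hp hle).symm⟩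
    letI := Localization.AtPrime.algebraOfLiesOver (⊥ : Ideal k[X]) p
    haveI : Module.Finite (⊥ : Ideal k[X]).ResidueField p.ResidueField := inferInstance
    have halg : IsAlgebraic k[X] (algebraMap Ba p.ResidueField (algebraMap B Ba a)) := by
      exact (IsFractionRing.isAlgebraic_iff k[X] (⊥ : Ideal k[X]).ResidueField p.ResidueField).2
        (Algebra.IsAlgebraic.isAlgebraic _)
    obtain ⟨F, hF0, hF⟩ := halg.exists_nonzero_coeff_and_aeval_eq_zero (mem_nonZeroDivisors_of_ne_zero fun h =>
      hp.ne_top (p.eq_top_of_isUnit_mem (p.algebraMap_residueField_eq_zero.1 h) hau))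
    refine ⟨F, hF0, p.algebraMap_residueField_eq_zero.1 ?_⟩
    rw [← hF, aeval_algebraMap_apply, aeval_def]
    congr 2
    exact RingHom.ext fun f => (hφt f).symm
  obtain ⟨P, Q, b₁, G₁, hP, hdeg, hb₁, hG₁⟩ := exists_regular_pow z hz a haz t htr hrel
  -- shrink away from the components missing `z`
  obtain ⟨c, hcz, hc⟩ : ∃ c, c ∉ z ∧ ∀ q ∈ minimalPrimes B, ¬q ≤ z → c ∈ q := by
    have hfinm : (minimalPrimes B).Finite := minimalPrimes.finite_of_isNoetherianRing B
    have h : ∀ q : minimalPrimes B, ∃ c, c ∉ z ∧ (¬(q : Ideal B) ≤ z → c ∈ (q : Ideal B)) := fun q => by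
      by_cases hq : (q : Ideal B) ≤ z
      · exact ⟨1, fun h => Ideal.IsMaximal.ne_top ‹z.IsMaximal› ((Ideal.eq_top_iff_one z).2 h), fun h => absurd hq h⟩
      · obtain ⟨c, hc, hcz⟩ := Set.not_subset.1 hq
        exact ⟨c, hcz, fun _ => hc⟩
    choose c hcz hc using h
    haveI := hfinm.fintype
    refine ⟨∏ q, c q, fun h => ?_, fun q hq hqz => ?_⟩
    · obtain ⟨q, -, hq⟩ := (Ideal.IsPrime.prod_mem_iff (hp := Ideal.IsMaximal.isPrime ‹_›)).1 h
      exact hcz q hq
    · exact Ideal.prod_mem _ (Finset.mem_univ (⟨q, hq⟩ : minimalPrimes B)) (hc ⟨q, hq⟩ hqz)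
  let b := c * b₁
  let G := c * G₁
  have hb : b ∉ z := fun h => ((Ideal.IsMaximal.isPrime ‹_›).mem_or_mem h).elim hcz hb₁
  have hG : algebraMap B Ba G * aeval t Q = algebraMap B Ba b * aeval t P := by
    rw [map_mul, map_mul, mul_assoc, hG₁, mul_assoc]
  have hminz : ∀ q ∈ minimalPrimes B, b ∉ q → q ≤ z := fun q hq hbq => by
    by_contra hqz
    exact hbq (q.mul_mem_right _ (hc q hq hqz))
  obtain ⟨⟨n₀, ⟨_, n, rfl⟩⟩, hn⟩ := IsLocalization.surj (Submonoid.powers a) (aeval t Q)
  change aeval t Q * algebraMap B Ba (a ^ n) = algebraMap B Ba n₀ at hn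
  let d := a * b * n₀
  have hd : ∀ q ∈ minimalPrimes B, b ∉ q → d ∉ q := fun q hq hbq hdq => by
    haveI := hq.1.1
    have haq := ha q hq (hminz q hq hbq)
    have hdisj : Disjoint (Submonoid.powers a : Set B) (q : Set B) := Set.disjoint_left.2 fun y ⟨m, hm⟩ hy =>
      haq (hq.1.1.mem_of_pow_mem m (by rw [← hm] at hy; exact hy))
    have hp := IsLocalization.isPrime_of_isPrime_disjoint (Submonoid.powers a) Ba q hq.1.1 hdisj
    have hcomap := IsLocalization.under_map_of_isPrime_disjoint (Submonoid.powers a) Ba hq.1.1 hdisj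
    have hle : (q.map (algebraMap B Ba)).comap (algebraMap B Ba) ≤ z := hcomap.le.trans (hminz q hq hbq)
    rcases hq.1.1.mem_or_mem hdq with h | h
    · exact (hq.1.1.mem_or_mem h).elim haq hbq
    · have hm : aeval t Q * algebraMap B Ba (a ^ n) ∈ q.map (algebraMap B Ba) :=
        hn ▸ Ideal.mem_map_of_mem _ h
      rcases hp.mem_or_mem hm with h1 | h1
      · exact htr _ hp hle Q (ne_zero_of_natDegree_gt hdeg) h1
      · rw [map_pow] at h1
        exact hp.ne_top (Ideal.eq_top_of_isUnit_mem _ h1 (hau.pow n))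
  have hdu : IsUnit (algebraMap B (Localization.Away d) d) := IsLocalization.Away.algebraMap_isUnit d
  have hu : IsUnit (algebraMap B (Localization.Away d) a) ∧ IsUnit (algebraMap B (Localization.Away d) b) ∧
      IsUnit (algebraMap B (Localization.Away d) n₀) := by
    have h := hdu
    rw [map_mul, map_mul, IsUnit.mul_iff, IsUnit.mul_iff] at h
    exact ⟨h.1.1, h.1.2, h.2⟩
  let ρa : Ba →+* Localization.Away d := IsLocalization.Away.lift a hu.1
  let Bb := Localization.Away b
  let ρb : Bb →+* Localization.Away d := IsLocalization.Away.lift b hu.2.1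
  have hbu : IsUnit (algebraMap B Bb b) := IsLocalization.Away.algebraMap_isUnit b
  let g : Bb := algebraMap B Bb G * ↑hbu.unit⁻¹
  refine ⟨b, d, aeval g, hb, ?_, hd, ρa, ρb, IsLocalization.Away.lift_comp a hu.1,
    IsLocalization.Away.lift_comp b hu.2.1, fun R _ u v huv => ?_⟩
  · -- quasi-finiteness
    letI : Algebra k[X] Bb := (aeval g : k[X] →ₐ[k] Bb).toRingHom.toAlgebra
    haveI : IsScalarTower k k[X] Bb := IsScalarTower.of_algebraMap_eq fun c => ((aeval g).commutes c).symm
    haveI : Algebra.FiniteType k Bb := Algebra.FiniteType.trans (S := B) inferInstance inferInstance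
    haveI : Algebra.FiniteType k[X] Bb := Algebra.FiniteType.of_restrictScalars_finiteType k k[X] Bb
    haveI : IsNoetherianRing Bb := Algebra.FiniteType.isNoetherianRing k Bb
    have hinj := PrimeSpectrum.localization_comap_injective Bb (Submonoid.powers b)
    have hmax : ∀ p : Ideal Bb, p.IsPrime → p.comap (algebraMap B Bb) ∉ minimalPrimes B →
        (p.comap (algebraMap B Bb)).IsMaximal := fun p hp hnm => by
      obtain ⟨q, hq, hqp⟩ := Ideal.exists_minimalPrimes_le (bot_le : ⊥ ≤ p.comap (algebraMap B Bb))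
      exact hdim q _ hq.1.1 inferInstance (lt_of_le_of_ne hqp fun h => hnm (h ▸ hq))
    -- transcendence on the components
    have key : ∀ p : Ideal Bb, p.IsPrime → p.comap (algebraMap B Bb) ∈ minimalPrimes B →
        p.comap (aeval g : k[X] →ₐ[k] Bb).toRingHom = ⊥ := fun p hp hq => by
      rw [eq_bot_iff]
      intro f hf
      rw [Ideal.mem_bot]
      by_contra hf0
      change aeval g f ∈ p at hf
      have hbp : b ∉ p.comap (algebraMap B Bb) := fun h =>
        hp.ne_top (p.eq_top_of_isUnit_mem h hbu)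
      have hdq := hd _ hq hbp
      let π : Localization.Away d →+* p.ResidueField := IsLocalization.Away.lift d
        (g := (algebraMap Bb p.ResidueField).comp (algebraMap B Bb))
        (isUnit_iff_ne_zero.2 fun h => hdq (p.algebraMap_residueField_eq_zero.1 h))
      have hπb : π.comp ρb = algebraMap Bb p.ResidueField := IsLocalization.ringHom_ext (Submonoid.powers b) (by
        rw [RingHom.comp_assoc, IsLocalization.Away.lift_comp b hu.2.1, IsLocalization.Away.lift_comp d])
      let τ := (π.comp ρa).comp (aeval t : k[X] →ₐ[k] Ba).toRingHom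
      have hgQ : algebraMap Bb p.ResidueField g * τ Q = τ P := by
        have h1 := congrArg (π.comp ρa) hG
        rw [map_mul (π.comp ρa), map_mul (π.comp ρa)] at h1
        have h2 : ∀ y, π (ρa (algebraMap B Ba y)) = algebraMap Bb p.ResidueField (algebraMap B Bb y) := fun y => by
          rw [← RingHom.comp_apply ρa, IsLocalization.Away.lift_comp a hu.1, IsLocalization.Away.lift_eq d]
          rfl
        simp only [RingHom.comp_apply, h2] at h1
        change algebraMap Bb p.ResidueField (algebraMap B Bb G * ↑hbu.unit⁻¹) * τ Q = τ P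
        rw [map_mul, mul_comm (algebraMap Bb p.ResidueField _), mul_assoc]
        refine (mul_right_inj' (show algebraMap Bb p.ResidueField (algebraMap B Bb b) ≠ 0 from
          fun h => hbp (p.algebraMap_residueField_eq_zero.1 h))).1 ?_
        rw [← mul_assoc, ← map_mul, IsUnit.mul_val_inv, map_one, one_mul]
        exact h1
      have hτne : ∀ f : k[X], f ≠ 0 → τ f ≠ 0 := fun f hf h => by
        have hqz := hminz _ hq hbp
        haveI : (RingHom.ker (π.comp ρa)).IsPrime := RingHom.ker_isPrime _
        refine htr _ ‹_› (le_trans (le_of_eq ?_) hqz) f hf h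
        ext y
        rw [Ideal.mem_comap, RingHom.mem_ker, RingHom.comp_apply, ← RingHom.comp_apply ρa,
          IsLocalization.Away.lift_comp a hu.1, IsLocalization.Away.lift_eq d]
        exact p.algebraMap_residueField_eq_zero
      refine hτne _ (homogenize_ne_zero hf0 hP hdeg) ?_
      have hev : algebraMap Bb p.ResidueField (aeval g f) = 0 := p.algebraMap_residueField_eq_zero.2 hf
      rw [aeval_eq_sum_range, map_sum] at hev
      rw [map_sum]
      calc ∑ i ∈ Finset.range (f.natDegree + 1), τ (C (f.coeff i) * P ^ i * Q ^ (f.natDegree - i))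
          = (∑ i ∈ Finset.range (f.natDegree + 1), algebraMap Bb p.ResidueField (f.coeff i • g ^ i)) *
              τ Q ^ f.natDegree := by
            rw [Finset.sum_mul]
            refine Finset.sum_congr rfl fun i hi => ?_
            rw [map_mul τ, map_mul τ, map_pow τ, map_pow τ, ← hgQ, mul_pow, Algebra.smul_def,
              map_mul (algebraMap Bb p.ResidueField) _ (g ^ i)]
            obtain ⟨m, hm⟩ := Nat.exists_eq_add_of_le (Nat.le_of_lt_succ (Finset.mem_range.1 hi))
            rw [hm, Nat.add_sub_cancel_left, pow_add, map_pow (algebraMap Bb p.ResidueField) g i]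
            have hC : τ (C (f.coeff i)) = algebraMap Bb p.ResidueField (algebraMap k Bb (f.coeff i)) := by
              rw [← hπb]
              change π (ρa (aeval t (C (f.coeff i)))) = π (ρb (algebraMap k Bb (f.coeff i)))
              rw [aeval_C, IsScalarTower.algebraMap_apply k B Ba, IsScalarTower.algebraMap_apply k B Bb,
                ← RingHom.comp_apply ρa, ← RingHom.comp_apply ρb, IsLocalization.Away.lift_comp a hu.1,
                IsLocalization.Away.lift_comp b hu.2.1]
            rw [hC]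
            ring
        _ = 0 := by rw [hev, zero_mul]
    refine (Algebra.QuasiFinite.iff_finite_comap_preimage_singleton).mpr fun P' => ?_
    by_cases hP' : P'.asIdeal = ⊥
    · refine Set.Finite.of_finite_image (f := PrimeSpectrum.comap (algebraMap B Bb))
        (((minimalPrimes.finite_of_isNoetherianRing B).preimage (f := PrimeSpectrum.asIdeal)
          (fun x _ y _ h => PrimeSpectrum.ext h)).subset ?_) hinj.injOn
      rintro _ ⟨p, hp, rfl⟩
      change p.asIdeal.comap (algebraMap B Bb) ∈ minimalPrimes B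
      by_contra hnm
      haveI : IsJacobsonRing B := isJacobsonRing_of_finiteType (A := k)
      haveI := hmax p.asIdeal p.isPrime hnm
      haveI hpm : p.asIdeal.IsMaximal := ((IsLocalization.isMaximal_iff_isMaximal_disjoint Bb b p.asIdeal).2
        ⟨this, fun h => p.isPrime.ne_top (p.asIdeal.eq_top_of_isUnit_mem h hbu)⟩)
      letI := Ideal.Quotient.field p.asIdeal
      haveI : Module.Finite k (Bb ⧸ p.asIdeal) := finite_of_finite_type_of_isJacobsonRing k _
      have halg : IsAlgebraic k (Ideal.Quotient.mk p.asIdeal g) := (Algebra.IsIntegral.isIntegral _).isAlgebraic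
      obtain ⟨f, hf0, hf⟩ := halg
      rw [← Ideal.Quotient.mkₐ_eq_mk k, aeval_algHom_apply, Ideal.Quotient.mkₐ_eq_mk,
        Ideal.Quotient.eq_zero_iff_mem] at hf
      have : f ∈ P'.asIdeal := by rw [← hp]; exact hf
      rw [hP', Ideal.mem_bot] at this
      exact hf0 this
    · obtain ⟨f, hf, hf0⟩ := (Submodule.ne_bot_iff _).1 hP'
      refine Set.Finite.subset (((Ideal.span {aeval g f}).finite_minimalPrimes_of_isNoetherianRing Bb).preimage
        (f := PrimeSpectrum.asIdeal) fun x _ y _ h => PrimeSpectrum.ext h) fun p hp => ?_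
      have hfp : aeval g f ∈ p.asIdeal := by
        have : f ∈ (PrimeSpectrum.comap (algebraMap k[X] Bb) p).asIdeal := by rw [hp]; exact hf
        exact this
      obtain ⟨p', hp', hp'p⟩ := Ideal.exists_minimalPrimes_le ((Ideal.span_singleton_le_iff_mem _).2 hfp)
      rw [Set.mem_preimage]
      suffices h : p' = p.asIdeal by rwa [← h]
      haveI := hp'.1.1
      have hnm : p'.comap (algebraMap B Bb) ∉ minimalPrimes B := fun hq => hf0 <| by
        have hmem : f ∈ p'.comap (aeval g : k[X] →ₐ[k] Bb).toRingHom := (show aeval g f ∈ p' from (Ideal.span_singleton_le_iff_mem _).1 hp'.1.2)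
        rwa [key p' inferInstance hq, Ideal.mem_bot] at hmem
      have he := (hmax p' inferInstance hnm).eq_of_le
        (Ideal.IsPrime.ne_top (Ideal.IsPrime.comap _)) (Ideal.comap_mono hp'p)
      exact congrArg PrimeSpectrum.asIdeal (hinj (a₁ := ⟨p', inferInstance⟩) (a₂ := p) (PrimeSpectrum.ext he))
  · -- compatibility
    have hG' : ∀ w : Localization.Away d →+* R,
        w (ρb g) * w (ρa (aeval t Q)) = w (ρa (aeval t P)) := fun w => by
      rw [← map_mul]
      refine congrArg w (hu.2.1.mul_left_cancel ?_)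
      have h1 := congrArg ρa hG
      rw [map_mul ρa, map_mul ρa, ← RingHom.comp_apply ρa, ← RingHom.comp_apply ρa,
        IsLocalization.Away.lift_comp a hu.1] at h1
      rw [← h1]
      have hρ : ∀ y, ρb (algebraMap B Bb y) = algebraMap B (Localization.Away d) y := fun y =>
        IsLocalization.Away.lift_eq b hu.2.1 y
      change _ * (ρb (algebraMap B Bb G * ↑hbu.unit⁻¹) * _) = _
      rw [← hρ b, ← hρ G, ← mul_assoc, ← map_mul ρb, mul_left_comm, IsUnit.mul_val_inv, mul_one]
    have hQu : IsUnit (ρa (aeval t Q)) := by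
      have h1 := congrArg ρa hn
      rw [map_mul, ← RingHom.comp_apply ρa, ← RingHom.comp_apply ρa, IsLocalization.Away.lift_comp a hu.1] at h1
      exact isUnit_of_mul_isUnit_left (h1 ▸ hu.2.2)
    have hfun : ∀ f, u (ρa (aeval t f)) = v (ρa (aeval t f)) := fun f => by
      rw [← hφt]
      exact DFunLike.congr_fun huv f
    refine Polynomial.ringHom_ext (fun c => ?_) ?_
    · have := hfun (C c)
      rw [aeval_C] at this
      change u (ρb (aeval g (C c))) = v (ρb (aeval g (C c)))
      rw [aeval_C, IsScalarTower.algebraMap_apply k B Bb, ← RingHom.comp_apply ρb,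
        IsLocalization.Away.lift_comp b hu.2.1]
      rw [IsScalarTower.algebraMap_apply k B Ba, ← RingHom.comp_apply ρa,
        IsLocalization.Away.lift_comp a hu.1] at this
      exact this
    · change u (ρb (aeval g X)) = v (ρb (aeval g X))
      rw [aeval_X]
      refine (hQu.map v).mul_right_cancel ?_
      rw [hG' v, ← hfun, ← hfun, hG' u]

end DimOneSep
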