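import Groth.Agent.DimOneSep.GeomFib
import Groth.Agent.CurvFieldLib.Basic
import Groth.Agent.CurvOpenLib.Smooth
import Groth.Agent.AlgSpLib.Qc

/-!
# Families of curves which are smooth outside finitely many points of every geometric fibre
-/

set_option autoImplicit false
set_option linter.style.haveILetI false
set_option backward.isDefEq.respectTransparency false
set_option backward.isDefEq.respectTransparency.types false
universe u

open CategoryTheory CategoryTheory.Limits AlgebraicGeometry AlgSp AlgSpLib CurvOpenLib Topology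

namespace CurvGeomFib

/-- The non-smooth locus of the fibre has dimension at most zero at the point. -/
def NsmFinAt {U V : Scheme.{u}} (h : U ⟶ V) (u : U) : Prop :=
  ∀ hu : ¬ SmoothNear h u, FlatMor.localDim {w : U // ¬ SmoothNear h w ∧ h w = h u} ⟨u, hu, rfl⟩ ≤ 0

variable {U V : Scheme.{u}} (h : U ⟶ V)

theorem isClosed_nonsmooth : IsClosed {u : U | ¬ SmoothNear h u} := by
  rw [← isOpen_compl_iff]
  refine isOpen_iff_forall_mem_open.2 fun u hu => ?_
  obtain ⟨W, hW, hs⟩ := not_not.1 hu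
  exact ⟨W, fun v hv => not_not.2 ⟨W, hv, hs⟩, W.2, hW⟩

theorem exists_nonsmooth_subscheme :
    ∃ (T : Scheme.{u}) (j : T ⟶ U), IsClosedImmersion j ∧ Set.range j = {u : U | ¬ SmoothNear h u} :=
  ⟨_, (Scheme.IdealSheafData.vanishingIdeal ⟨_, isClosed_nonsmooth h⟩).subschemeι, inferInstance, by
    rw [Scheme.IdealSheafData.range_subschemeι]
    exact Scheme.IdealSheafData.coe_support_vanishingIdeal _⟩

theorem nsmFinAt_iff {T : Scheme.{u}} (j : T ⟶ U) [IsClosedImmersion j]
    (hj : Set.range j = {u : U | ¬ SmoothNear h u}) (z : T) :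
    NsmFinAt h (j z) ↔ FlatMor.fibreDimAt (j ≫ h) z ≤ 0 := by
  let y := (j ≫ h) z
  let φ : ↥((j ≫ h).fiber y) → {w : U // ¬ SmoothNear h w ∧ h w = h (j z)} := fun x =>
    ⟨j ((j ≫ h).fiberι y x), hj.subset ⟨_, rfl⟩, ((j ≫ h).range_fiberι y).subset ⟨x, rfl⟩⟩
  have hind : IsInducing φ := IsInducing.subtypeVal.of_comp_iff.1
    (j.isEmbedding.isInducing.comp ((j ≫ h).fiberι y).isEmbedding.isInducing)
  have hinj : Function.Injective φ := fun a b e =>
    ((j ≫ h).fiberι y).isEmbedding.injective (j.isEmbedding.injective (congrArg Subtype.val e))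
  have hsurj : Function.Surjective φ := fun w => by
    obtain ⟨t, ht⟩ := hj.superset w.2.1
    obtain ⟨x, hx⟩ := ((j ≫ h).range_fiberι y).superset
      (show t ∈ (j ≫ h) ⁻¹' {y} from (congrArg h ht).trans w.2.2)
    exact ⟨x, Subtype.ext ((congrArg j hx).trans ht)⟩
  have hemb : IsOpenEmbedding φ := ⟨⟨hind, hinj⟩, by rw [hsurj.range_eq]; exact isOpen_univ⟩
  have hz : ¬ SmoothNear h (j z) := hj.subset ⟨z, rfl⟩
  have key : FlatMor.fibreDimAt (j ≫ h) z =
      FlatMor.localDim {w : U // ¬ SmoothNear h w ∧ h w = h (j z)} ⟨j z, hz, rfl⟩ := by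
    have hφ : φ ((j ≫ h).asFiber z) = ⟨j z, hz, rfl⟩ := Subtype.ext (congrArg j ((j ≫ h).fiberι_asFiber z))
    have := FibDimLib.localDim_eq_of_isOpenEmbedding hemb ((j ≫ h).asFiber z)
    rw [hφ] at this
    exact this.symm
  exact ⟨fun H => key.trans_le (H hz), fun H _ => key.symm.trans_le H⟩

theorem nsmFinAt_of_smooth {u : U} (hu : SmoothNear h u) : NsmFinAt h u := fun hn => absurd hu hn

theorem nsmFinAt_srcEt {U' : Scheme.{u}} (a : U' ⟶ U) [Etale a] [Flat h] [LocallyOfFinitePresentation h] (u' : U') :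
    NsmFinAt (a ≫ h) u' ↔ NsmFinAt h (a u') := by
  have hsm : ∀ w, SmoothNear (a ≫ h) w ↔ SmoothNear h (a w) := fun w => good_smooth.srcEt a h w
  by_cases hs : SmoothNear h (a u')
  · exact iff_of_true (nsmFinAt_of_smooth _ ((hsm u').2 hs)) (nsmFinAt_of_smooth h hs)
  obtain ⟨T, j, _, hj⟩ := exists_nonsmooth_subscheme h
  have hrange : Set.range (pullback.fst a j) = {w : U' | ¬ SmoothNear (a ≫ h) w} := by
    rw [Scheme.Pullback.range_fst, hj]
    exact Set.ext fun w => not_congr (hsm w).symm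
  obtain ⟨z', hz'⟩ := hrange.superset (show u' ∈ _ from fun hw => hs ((hsm u').1 hw))
  subst hz'
  haveI : IsClosedImmersion (pullback.fst a j) :=
    MorphismProperty.pullback_fst (P := @IsClosedImmersion) _ _ ‹_›
  haveI : Etale (pullback.snd a j) := MorphismProperty.pullback_snd (P := @Etale) _ _ ‹_›
  rw [nsmFinAt_iff (a ≫ h) (pullback.fst a j) hrange z']
  rw [show a ((pullback.fst a j) z') = j ((pullback.snd a j) z') from
    congrArg (fun φ : pullback a j ⟶ U => φ z') pullback.condition, nsmFinAt_iff h j hj]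
  rw [FibDimLib.fibreDimAt_eq_of_etale_square (j ≫ h) (pullback.fst a j ≫ a ≫ h) (pullback.snd a j) (𝟙 V)
    (by rw [Category.comp_id, ← Category.assoc, pullback.condition, Category.assoc]) z']

theorem nsmFinAt_tgtEt {W : Scheme.{u}} (b : V ⟶ W) [Etale b] [Flat h] [LocallyOfFinitePresentation h] (u : U) :
    NsmFinAt (h ≫ b) u ↔ NsmFinAt h u := by
  have hsm : ∀ w, SmoothNear (h ≫ b) w ↔ SmoothNear h w := fun w => good_smooth.tgtEt h b w
  by_cases hs : SmoothNear h u
  · exact iff_of_true (nsmFinAt_of_smooth _ ((hsm u).2 hs)) (nsmFinAt_of_smooth h hs)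
  obtain ⟨T, j, _, hj⟩ := exists_nonsmooth_subscheme h
  have hj' : Set.range j = {w : U | ¬ SmoothNear (h ≫ b) w} :=
    hj.trans (Set.ext fun w => not_congr (hsm w).symm)
  obtain ⟨z, hz⟩ := hj.superset hs
  subst hz
  rw [nsmFinAt_iff h j hj, nsmFinAt_iff (h ≫ b) j hj']
  have := FibDimLib.fibreDimAt_eq_of_etale_square (j ≫ h ≫ b) (j ≫ h) (𝟙 T) b (by simp) z
  rw [show (𝟙 T : T ⟶ T).base z = z from rfl] at this
  rw [this]

theorem nsmFinAt_baseChange {U' V' : Scheme.{u}} {g : V' ⟶ V} {h' : U' ⟶ V'} {g' : U' ⟶ U} [Flat h]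
    [LocallyOfFinitePresentation h] (sq : IsPullback g' h' h g) (u' : U') :
    NsmFinAt h' u' ↔ NsmFinAt h (g' u') := by
  have hsm : ∀ w, SmoothNear h' w ↔ SmoothNear h (g' w) := fun w => good_smooth.baseChange h g h' g' sq w
  by_cases hs : SmoothNear h (g' u')
  · exact iff_of_true (nsmFinAt_of_smooth _ ((hsm u').2 hs)) (nsmFinAt_of_smooth h hs)
  obtain ⟨T, j, _, hj⟩ := exists_nonsmooth_subscheme h
  have hrange : Set.range (pullback.fst g' j) = {w : U' | ¬ SmoothNear h' w} := by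
    rw [Scheme.Pullback.range_fst, hj]
    exact Set.ext fun w => not_congr (hsm w).symm
  obtain ⟨z', hz'⟩ := hrange.superset (show u' ∈ _ from fun hw => hs ((hsm u').1 hw))
  subst hz'
  haveI : IsClosedImmersion (pullback.fst g' j) :=
    MorphismProperty.pullback_fst (P := @IsClosedImmersion) _ _ ‹_›
  rw [nsmFinAt_iff h' (pullback.fst g' j) hrange z',
    show g' ((pullback.fst g' j) z') = j ((pullback.snd g' j) z') from
      congrArg (fun φ : pullback g' j ⟶ U => φ z') pullback.condition, nsmFinAt_iff h j hj]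
  have sq' : IsPullback (pullback.snd g' j) (pullback.fst g' j ≫ h') (j ≫ h) g :=
    ((IsPullback.of_hasPullback g' j).flip).paste_vert sq
  rw [FibDimLib.fibreDimAt_baseChange sq' z']

theorem isOpen_nsmFinAt [Flat h] [LocallyOfFinitePresentation h] : IsOpen {u : U | NsmFinAt h u} := by
  obtain ⟨T, j, _, hj⟩ := exists_nonsmooth_subscheme h
  have he : {u : U | NsmFinAt h u}ᶜ = j '' {z | FlatMor.fibreDimAt (j ≫ h) z ≤ 0}ᶜ := by
    ext u
    constructor
    · intro hu
      obtain ⟨z, rfl⟩ := hj.superset (show u ∈ _ from fun hs => hu (nsmFinAt_of_smooth h hs))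
      exact ⟨z, fun hz => hu ((nsmFinAt_iff h j hj z).2 hz), rfl⟩
    · rintro ⟨z, hz, rfl⟩ hu
      exact hz ((nsmFinAt_iff h j hj z).1 hu)
  rw [← isClosed_compl_iff, he]
  exact j.isClosedEmbedding.isClosedMap _ (FibDimLib.isOpen_fibreDimAt_le (j ≫ h) 0).isClosed_compl

theorem good_nsmFin : GoodProp.{u} (fun h u => NsmFinAt h u) where
  srcEt a h _ _ _ u' := nsmFinAt_srcEt h a u'
  tgtEt h b _ _ _ u := nsmFinAt_tgtEt h b u
  baseChange h g h' g' _ _ sq u' := nsmFinAt_baseChange h sq u'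
  isOpen h _ _ := isOpen_nsmFinAt h

/-- On a curve over a field the condition is finiteness of the singular set. -/
theorem finite_nonsmooth_iff {k : Type u} [Field k] {X : Scheme.{u}} (q : X ⟶ Spec (CommRingCat.of k))
    [LocallyOfFiniteType q] [CompactSpace X] :
    Set.Finite {x : X | ¬ ∃ U : X.Opens, x ∈ U ∧ Smooth (U.ι ≫ q)} ↔ ∀ x, NsmFinAt q x := by
  haveI : IsLocallyNoetherian X := LocallyOfFiniteType.isLocallyNoetherian q
  haveI : JacobsonSpace X := LocallyOfFiniteType.jacobsonSpace q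
  let Z : Set X := {x | ¬ SmoothNear q x}
  have hZ : IsClosed Z := isClosed_nonsmooth q
  haveI : Subsingleton ↥(Spec (CommRingCat.of k)) := inferInstanceAs (Subsingleton (PrimeSpectrum k))
  change Z.Finite ↔ _
  constructor
  · intro hfin x hx
    refine FibDimLib.localDim_le_zero_of_isOpen ?_
    let S := {w : X // ¬ SmoothNear q w ∧ q w = q x}
    haveI : Finite S := (hfin.subset fun w hw => hw.1).to_subtype
    haveI : T1Space S := ⟨fun w => by
      have := (CurvFieldLib.isClosed_singleton_of_mem_finite hZ hfin w.2.1).preimage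
        (continuous_subtype_val (p := fun w => ¬ SmoothNear q w ∧ q w = q x))
      convert this using 1
      exact Set.ext fun v => ⟨fun hv => congrArg Subtype.val hv, fun hv => Subtype.ext hv⟩⟩
    exact isOpen_discrete _
  · intro H
    obtain ⟨T, j, _, hj⟩ := exists_nonsmooth_subscheme q
    haveI : CompactSpace T := j.isClosedEmbedding.compactSpace
    haveI : LocallyQuasiFinite (j ≫ q) := (AlgSpLib.lqf_iff_fibreDimAt_eq_zero _).2 fun z =>
      le_antisymm ((nsmFinAt_iff q j hj z).1 (H _)) (AlgSpLib.fibreDimAt_nonneg _ _)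
    haveI : QuasiCompact (j ≫ q) := quasiCompact_of_compactSpace _
    have hT : (Set.univ : Set T).Finite := by
      refine ((j ≫ q).finite_preimage_singleton (IsLocalRing.closedPoint k)).subset fun z _ => ?_
      exact Subsingleton.elim (α := ↥(Spec (CommRingCat.of k))) _ _
    have h2 := hT.image j
    rw [Set.image_univ, hj] at h2
    exact h2

variable {S : Scheme.{u}}

theorem compactSpace_geom_fibre {n : ℕ} {A : CurvSt.SpFamObj S n} (hA : CurvSt.IsCurveFam A) {Ω : Type u} [Field Ω]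
    {t : Spec (CommRingCat.of Ω) ⟶ A.base.left} {X' : Scheme.{u}} {q : X' ⟶ Spec (CommRingCat.of Ω)}
    {i : (yon S).obj (A.ptOver (q ≫ t)) ⟶ A.X}
    (hP : IsPullback i ((yon S).map (A.fibHom t q)) A.f ((yon S).map (A.ptHom t))) : CompactSpace X' := by
  haveI : CompactSpace ↥(A.ptOver t).left := inferInstanceAs (CompactSpace (PrimeSpectrum Ω))
  have h := hA.2.2.2.1.2.1 (IsAlgSpace.yon_obj (A.ptOver t)) (isQuasiCompactSp_yon (A.ptOver t))
    ((yon S).map (A.ptHom t)) i ((yon S).map (A.fibHom t q)) hP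
  haveI := compactSpace_points_of_isQuasiCompactSp h
  exact (Points.schemeHomeo (A.ptOver (q ≫ t))).symm.compactSpace

theorem geomFib_finNonsmooth_iff {n : ℕ} {A : CurvSt.SpFamObj S n} (hA : CurvSt.IsCurveFam A) :
    CurvSt.GeomFib (fun _ _ _ X' q _ => Set.Finite {x : ↥X' | ¬ ∃ U : X'.Opens, x ∈ U ∧ Smooth (U.ι ≫ q)}) A ↔
      LocP (allPts fun h u => NsmFinAt h u) A.f := by
  rw [← geomFib_iff_locP good_nsmFin hA]
  have key : ∀ (Ω : Type u) [Field Ω] (t : Spec (CommRingCat.of Ω) ⟶ A.base.left) (X' : Scheme.{u})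
      (q : X' ⟶ Spec (CommRingCat.of Ω)) (i : (yon S).obj (A.ptOver (q ≫ t)) ⟶ A.X),
      IsPullback i ((yon S).map (A.fibHom t q)) A.f ((yon S).map (A.ptHom t)) →
        LocallyOfFiniteType q ∧ CompactSpace X' := fun Ω _ t X' q i hP =>
    ⟨(locP_yon_map_iff (P := (@LocallyOfFiniteType : MorphismProperty Scheme.{u})) (A.fibHom t q)).1
      (locP_of_isPullback hA.1 (IsAlgSpace.yon_obj A.base) (IsAlgSpace.yon_obj (A.ptOver t)) hP hA.2.2.1.2.1.1),
      compactSpace_geom_fibre hA hP⟩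
  constructor
  · intro H Ω _ _ t X' q i hP
    obtain ⟨_, _⟩ := key Ω t X' q i hP
    exact (finite_nonsmooth_iff q).1 (H Ω t X' q i hP)
  · intro H Ω _ _ t X' q i hP
    obtain ⟨_, _⟩ := key Ω t X' q i hP
    exact (finite_nonsmooth_iff q).2 (H Ω t X' q i hP)

theorem nonempty_fiber_finNonsmooth (Ω : Type u) [Field Ω] (t : Spec (CommRingCat.of Ω) ⟶ S) :
    Nonempty ((AlgSt.fullSub (CurvSt.Curves S 0) (fun A => CurvSt.GeomFib (fun _ _ _ X' q _ =>
      Set.Finite {x : ↥X' | ¬ ∃ U : X'.Opens, x ∈ U ∧ Smooth (U.ι ≫ q)}) A.obj)).p.Fiber (Over.mk t)) := by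
  haveI := GenusZeroLib.smooth_toSpec 1 Ω
  exact nonempty_fiber Ω t good_nsmFin _ (fun A => geomFib_finNonsmooth_iff A.property)
    fun x => nsmFinAt_of_smooth _ ⟨⊤, trivial, inferInstance⟩

end CurvGeomFib
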