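import Groth.Agent.DimOneSep.Space
import Groth.Agent.CurvOpenLib.Example

/-!
# Geometric fibres of families of curves

The geometric fibres of a family of curves are schemes, so a condition on them cut out by a good pointwise
condition is read on any atlas.
-/

set_option autoImplicit false
set_option linter.style.haveILetI false
set_option backward.isDefEq.respectTransparency false
set_option backward.isDefEq.respectTransparency.types false
universe u

open CategoryTheory CategoryTheory.Limits AlgebraicGeometry AlgSp AlgSpLib CurvOpenLib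

namespace CurvGeomFib

variable {S : Scheme.{u}} {n : ℕ} {A : CurvSt.SpFamObj S n}

/-- The geometric fibres of a family of curves are schemes. -/
theorem exists_geom_fibre (hA : CurvSt.IsCurveFam A) {Ω : Type u} [Field Ω]
    (t : Spec (CommRingCat.of Ω) ⟶ A.base.left) :
    ∃ (X' : Scheme.{u}) (q : X' ⟶ Spec (CommRingCat.of Ω)) (i : (yon S).obj (A.ptOver (q ≫ t)) ⟶ A.X),
      IsPullback i ((yon S).map (A.fibHom t q)) A.f ((yon S).map (A.ptHom t)) := by
  obtain ⟨hX, -, hp, hfp, hdim⟩ := hA
  have sq := IsPullback.of_hasPullback A.f ((yon S).map (A.ptHom t))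
  have hT := IsAlgSpace.yon_obj A.base
  have hO := IsAlgSpace.yon_obj (A.ptOver t)
  have hlft : LocP @LocallyOfFiniteType A.f := hp.2.1.1
  obtain ⟨M, ⟨eM⟩⟩ := DimOneSep.isRepSh_of_dim_le_one (t := t ≫ A.base.hom)
    (f := (pullback.snd A.f ((yon S).map (A.ptHom t)) : _ ⟶ (yon S).obj (Over.mk (t ≫ A.base.hom))))
    (isAlgSpace_pullback hX hO hT A.f ((yon S).map (A.ptHom t)))
    (repWith_diagonal_of_isPullback sq hp.1)
    (locP_of_isPullback hX hT hO sq hlft) fun x =>
      (hasAtMor_fibreDim_baseChange hX hT hO sq hlft (fun c => c ≤ ((1 : ℕ) : WithBot ℕ∞)) x).2 (hdim _)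
  obtain ⟨g, hg⟩ := (yon S).map_surjective (eM.hom ≫ pullback.snd A.f ((yon S).map (A.ptHom t)))
  let e : A.ptOver (g.left ≫ t) ≅ M := Over.isoMk (Iso.refl _) (by
    show 𝟙 _ ≫ M.hom = (g.left ≫ t) ≫ A.base.hom
    rw [Category.id_comp, Category.assoc]
    exact (Over.w g).symm)
  have heg : A.fibHom t g.left = e.hom ≫ g := Over.OverMorphism.ext (Category.id_comp g.left).symm
  refine ⟨M.left, g.left, (yon S).map e.hom ≫ eM.hom ≫ pullback.fst _ _,
    sq.of_iso (((yon S).mapIso e) ≪≫ eM).symm (Iso.refl _) (Iso.refl _) (Iso.refl _) ?_ ?_ ?_ ?_⟩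
  · simp
  · rw [heg, Functor.map_comp, hg]
    simp
  · simp
  · simp

/-- A condition on all points of all geometric fibres is read on an atlas. -/
theorem geomFib_iff_locP {Q : ∀ {U V : Scheme.{u}}, (U ⟶ V) → ↥U → Prop} (hQ : GoodProp Q)
    (hA : CurvSt.IsCurveFam A) :
    CurvSt.GeomFib (fun Ω _ _ X' q _ => ∀ x, Q q x) A ↔ LocP (allPts Q) A.f := by
  obtain ⟨hX, hfl, hp, hfp, -⟩ := id hA
  obtain ⟨U, r, hr, hrs⟩ := hX.atlas
  obtain ⟨h, e'⟩ := (yon S).map_surjective (r ≫ A.f)
  have e : r ≫ A.f = (yon S).map h := e'.symm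
  obtain ⟨_, _⟩ := chart_data hfl hfp.1 hr e
  rw [locP_iff_atlas hQ hfl hfp.1 hr hrs e]
  -- a geometric fibre and the fibre of the chart
  have key : ∀ (Ω : Type u) [Field Ω] (t : Spec (CommRingCat.of Ω) ⟶ A.base.left) (X' : Scheme.{u})
      (q : X' ⟶ Spec (CommRingCat.of Ω)) (i : (yon S).obj (A.ptOver (q ≫ t)) ⟶ A.X),
      IsPullback i ((yon S).map (A.fibHom t q)) A.f ((yon S).map (A.ptHom t)) →
        ∃ w : pullback h.left t ⟶ X', Surjective w ∧ ∀ z, Q q (w z) ↔ Q h.left ((pullback.fst h.left t) z) := by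
    intro Ω _ t X' q i hP
    let W : Over S := Over.mk (pullback.fst h.left t ≫ U.hom)
    let pW : W ⟶ U := Over.homMk (pullback.fst h.left t) rfl
    let sW : W ⟶ A.ptOver t := Over.homMk (pullback.snd h.left t) (by
      show pullback.snd h.left t ≫ t ≫ A.base.hom = pullback.fst h.left t ≫ U.hom
      rw [← Category.assoc, ← pullback.condition, Category.assoc, Over.w h])
    have hsq : IsPullback pW sW h (A.ptHom t) :=
      IsPullback.of_map (Over.forget S) (Over.OverMorphism.ext pullback.condition) (IsPullback.of_hasPullback h.left t)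
    have hsqy := hsq.map (yon S)
    obtain ⟨ω, hω⟩ := (yon S).map_surjective (hP.lift ((yon S).map pW ≫ r) ((yon S).map sW)
      (by rw [Category.assoc, e]; exact hsqy.w))
    have hω1 : (yon S).map ω ≫ i = (yon S).map pW ≫ r := by rw [hω, hP.lift_fst]
    have hω2 : ω ≫ A.fibHom t q = sW := (yon S).map_injective (by rw [Functor.map_comp, hω, hP.lift_snd])
    have sqW : IsPullback ((yon S).map pW) ((yon S).map ω) r i :=
      IsPullback.of_bot (by rw [← Functor.map_comp, hω2, e]; exact hsqy) hω1.symm hP
    haveI : Surjective ω.left := surjective_left (repWith_of_isPullback sqW hrs)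
    haveI : Etale ω.left := etale_left (repWith_of_isPullback sqW hr)
    refine ⟨ω.left, ‹_›, fun z => ?_⟩
    have hl : ω.left ≫ q = pullback.snd h.left t := congrArg CommaMorphism.left hω2
    haveI hlsnd : LocallyOfFinitePresentation (pullback.snd h.left t) :=
      MorphismProperty.pullback_snd (P := @LocallyOfFinitePresentation) _ _ inferInstance
    haveI : Flat (pullback.snd h.left t) := MorphismProperty.pullback_snd (P := @Flat) _ _ inferInstance
    have hlocP : ∀ (P : MorphismProperty Scheme.{u}) [EtLocProp P], LocP P A.f → P q := fun P _ hf =>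
      (locP_yon_map_iff (P := P) (A.fibHom t q)).1
        (locP_of_isPullback hX (IsAlgSpace.yon_obj A.base) (IsAlgSpace.yon_obj (A.ptOver t)) hP hf)
    haveI : Flat q := hlocP @Flat hfl
    haveI : LocallyOfFinitePresentation q := hlocP @LocallyOfFinitePresentation hfp.1
    refine (hQ.srcEt ω.left q z).symm.trans ?_
    rw [hl]
    exact hQ.baseChange h.left t _ _ (IsPullback.of_hasPullback h.left t) z
  constructor
  · intro H u
    let Ω := AlgebraicClosure (A.base.left.residueField (h.left u))
    let t : Spec (CommRingCat.of Ω) ⟶ A.base.left :=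
      Spec.map (CommRingCat.ofHom (algebraMap (A.base.left.residueField (h.left u)) Ω)) ≫
        A.base.left.fromSpecResidueField (h.left u)
    obtain ⟨X', q, i, hP⟩ := exists_geom_fibre hA t
    obtain ⟨w, -, hw⟩ := key Ω t X' q i hP
    obtain ⟨z, hz, -⟩ := Scheme.Pullback.exists_preimage_pullback (f := h.left) (g := t) u
      (IsLocalRing.closedPoint Ω) (by
        simp only [t, Scheme.Hom.comp_apply]
        exact (Scheme.fromSpecResidueField_apply _ _).symm)
    rw [← hz, ← hw z]
    exact H Ω t X' q i hP (w z)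
  · intro H Ω _ _ t X' q i hP x
    obtain ⟨w, hws, hw⟩ := key Ω t X' q i hP
    obtain ⟨z, rfl⟩ := w.surjective x
    exact (hw z).2 (H _)

end CurvGeomFib
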