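import Groth.Agent.DimOneSep.GeomFib
import Groth.Agent.GeomRedSpLib.Main
import Groth.Agent.SecNhdLib.FlatNhd
import Groth.Agent.EquidimLib.GeomReduced
import Groth.Agent.RadBoundLib.GrPointwise
import Groth.Agent.NodalLib.Family
import Groth.Agent.S2549
import Groth.Agent.S2535
import Groth.Agent.EquidimLib.ComponentUnique
import Groth.Agent.SecNhdLib.Smooth

/-!
# Families of curves with geometrically reduced fibres
-/

set_option autoImplicit false
set_option linter.style.haveILetI false
set_option backward.isDefEq.respectTransparency false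
set_option backward.isDefEq.respectTransparency.types false
universe u

open CategoryTheory CategoryTheory.Limits AlgebraicGeometry AlgSp AlgSpLib CurvOpenLib IsLocalRing

namespace CurvGeomFib

/-- The fibre is geometrically reduced at the point. -/
def GRedAt {U V : Scheme.{u}} (h : U ⟶ V) (u : U) : Prop :=
  FBase.IsGeomReducedAt (h.fiberToSpecResidueField (h u)) (h.asFiber u)

theorem gredAt_baseChange {U V U' V' : Scheme.{u}} {h : U ⟶ V} {g : V' ⟶ V} {h' : U' ⟶ V'} {g' : U' ⟶ U}
    (sq : IsPullback g' h' h g) (u' : U') : GRedAt h' u' ↔ GRedAt h (g' u') :=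
  ⟨fun H => SecNhdLib.isGeomReducedAt_of_baseChange sq u' H,
    fun H => EquidimLib.isGeomReducedAt_baseChange h (g' u') H sq u' rfl⟩

theorem gredAt_comp_etale {U' U V : Scheme.{u}} (a : U' ⟶ U) (h : U ⟶ V) [Etale a] (u' : U') :
    GRedAt (a ≫ h) u' ↔ GRedAt h (a u') := by
  let s := (a ≫ h) u'
  haveI := NodalLib.etale_fiberMap a h s
  have hpt : MoreMor.fiberMap a h s ((a ≫ h).asFiber u') = h.asFiber (a u') := by
    refine (h.fiberι s).isEmbedding.injective ?_
    have h1 := congrArg (fun φ : (a ≫ h).fiber s ⟶ U => φ ((a ≫ h).asFiber u')) (FlatLib.fiberMap_ι a h s)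
    simp only [Scheme.Hom.comp_apply] at h1
    rw [h1, Scheme.Hom.fiberι_asFiber]
    exact (h.fiberι_asFiber (a u')).symm
  have := GeomRedSpLib.isGeomReducedAt_etale_iff (MoreMor.fiberMap a h s) (h.fiberToSpecResidueField s)
    ((a ≫ h).asFiber u')
  rw [FlatLib.fiberMap_to, hpt] at this
  exact this

theorem good_gred : GoodProp.{u} (fun h u => GRedAt h u) where
  srcEt a h _ _ _ u' := gredAt_comp_etale a h u'
  tgtEt {U V W} h b _ _ _ u := by
    let gr : U ⟶ pullback (h ≫ b) b := pullback.lift (𝟙 U) h (by simp)
    haveI : Etale gr := by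
      haveI : Etale (gr ≫ pullback.fst (h ≫ b) b) := by rw [pullback.lift_fst]; infer_instance
      exact Etale.of_comp gr (pullback.fst (h ≫ b) b)
    have e : gr ≫ pullback.snd (h ≫ b) b = h := pullback.lift_snd _ _ _
    conv_rhs => rw [← e]
    rw [gredAt_comp_etale gr (pullback.snd (h ≫ b) b) u, gredAt_baseChange (IsPullback.of_hasPullback (h ≫ b) b)]
    rw [← Scheme.Hom.comp_apply, pullback.lift_fst]
    rfl
  baseChange h g h' g' _ _ sq u' := gredAt_baseChange sq u'
  isOpen h _ _ := Groth.Agent.S2549.result h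

theorem forall_gredAt_of_gr {k : Type u} [Field k] {X : Scheme.{u}} (q : X ⟶ Spec (CommRingCat.of k))
    [GeometricallyReduced q] (x : X) : GRedAt q x := by
  haveI : GeometricallyReduced (q.fiberToSpecResidueField (q x)) :=
    MorphismProperty.pullback_snd (P := @GeometricallyReduced) _ _ ‹_›
  exact (RadBoundLib.gr_iff_forall_geomReducedAt _).1 inferInstance _

/-- Over a perfect field the condition is reducedness. -/
theorem isReduced_iff_forall_gredAt {k : Type u} [Field k] [PerfectField k] {X : Scheme.{u}}
    (q : X ⟶ Spec (CommRingCat.of k)) : IsReduced X ↔ ∀ x, GRedAt q x := by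
  constructor
  · intro hX x
    haveI : IsIso (Spec.map (CommRingCat.ofHom (algebraMap k k))) := by
      rw [Algebra.algebraMap_self, CommRingCat.ofHom_id, Spec.map_id]; infer_instance
    haveI : IsReduced (FBase.bc q k) :=
      haveI : IsIso (FBase.bcπ q k) := inferInstanceAs (IsIso (pullback.fst q _))
      isReduced_of_isOpenImmersion (FBase.bcπ q k)
    haveI : GeometricallyReduced q := Groth.Agent.S2535.result (Ω := k) q
    exact forall_gredAt_of_gr q x
  · intro H
    rcases isEmpty_or_nonempty X with hX | ⟨⟨x₀⟩⟩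
    · haveI : ∀ x : X, _root_.IsReduced (X.presheaf.stalk x) := fun x => isEmptyElim x
      exact isReduced_of_isReduced_stalk X
    · let s := q x₀
      haveI : GeometricallyReduced (q.fiberToSpecResidueField s) := by
        refine (RadBoundLib.gr_iff_forall_geomReducedAt _).2 fun z => ?_
        have hz : q (q.fiberι s z) = s := (q.range_fiberι s).subset ⟨z, rfl⟩
        have := H (q.fiberι s z)
        exact EquidimLib.isGeomReducedAt_congr q (q.fiberι_asFiber _) this
      haveI : IsReduced (q.fiber s) :=
        GeometricallyReduced.geometrically_isReduced (f := q.fiberToSpecResidueField s)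
          (𝟙 (Spec ((Spec (CommRingCat.of k)).residueField s))) (𝟙 (q.fiber s)) (q.fiberToSpecResidueField s)
          (IsPullback.id_horiz _)
      haveI : Subsingleton ↥(Spec (CommRingCat.of k)) := inferInstanceAs (Subsingleton (PrimeSpectrum k))
      haveI : IsReduced (Spec (CommRingCat.of k)) := inferInstance
      haveI := NodalLib.isOpenImmersion_fromSpecResidueField s
      haveI : Surjective ((Spec (CommRingCat.of k)).fromSpecResidueField s) :=
        ⟨fun y => ⟨IsLocalRing.closedPoint _, Subsingleton.elim _ _⟩⟩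
      haveI : IsIso (q.fiberι s) := by
        haveI : IsIso ((Spec (CommRingCat.of k)).fromSpecResidueField s) := by
          rw [isIso_iff_isOpenImmersion_and_surjective]
          exact ⟨inferInstance, inferInstance⟩
        exact inferInstanceAs (IsIso (pullback.fst q _))
      exact isReduced_of_isOpenImmersion (inv (q.fiberι s))

theorem geomFib_isReduced_iff {S : Scheme.{u}} {n : ℕ} {A : CurvSt.SpFamObj S n} (hA : CurvSt.IsCurveFam A) :
    CurvSt.GeomFib (fun _ _ _ X' _ _ => IsReduced X') A ↔ LocP (allPts fun h u => GRedAt h u) A.f := by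
  rw [← geomFib_iff_locP good_gred hA]
  exact ⟨fun H Ω _ _ t X' q i hP => (isReduced_iff_forall_gredAt q).1 (H Ω t X' q i hP),
    fun H Ω _ _ t X' q i hP => (isReduced_iff_forall_gredAt q).2 (H Ω t X' q i hP)⟩

theorem nonempty_fiber_reduced {S : Scheme.{u}} (Ω : Type u) [Field Ω] (t : Spec (CommRingCat.of Ω) ⟶ S) :
    Nonempty ((AlgSt.fullSub (CurvSt.Curves S 0)
      (fun A => CurvSt.GeomFib (fun _ _ _ X' _ _ => IsReduced X') A.obj)).p.Fiber (Over.mk t)) := by
  haveI := GenusZeroLib.smooth_toSpec 1 Ω
  refine nonempty_fiber Ω t good_gred _ (fun A => geomFib_isReduced_iff A.property) fun x => ?_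
  exact SecNhdLib.isGeomReducedAt_of_smooth (CohB1.ProjSpace.toSpec 1 Ω) x

end CurvGeomFib
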