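import Mathlib.RingTheory.Valuation.LocalSubring
import Mathlib.RingTheory.Localization.AtPrime.Basic
import Mathlib.RingTheory.Localization.Away.Basic
import Mathlib.RingTheory.Ideal.MinimalPrime.Noetherian
import Mathlib.RingTheory.Polynomial.Basic
import Mathlib.Algebra.Polynomial.Reverse
import Mathlib.RingTheory.IntegralClosure.IsIntegral.Basic
import Mathlib.RingTheory.LocalProperties.Reduced

/-!
# Functions of one parameter extending over a point of a curve

On a reduced one-dimensional ring, a rational function `P(t)/Q(t)` of a parameter `t` defined away from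
a point `z` which vanishes to high order at every place over `z` has a power which is regular at `z`.
-/

set_option autoImplicit false
universe u

open Polynomial

namespace DimOneSep

section Valuation

variable {k L : Type u} [Field k] [Field L] [Algebra k L] {V : ValuationSubring L}
  (hk : ∀ c : k, algebraMap k L c ∈ V)

include hk

theorem aeval_mem {x : L} (hx : x ∈ V) (f : k[X]) : aeval x f ∈ V := by
  rw [aeval_eq_sum_range]
  exact sum_mem fun i _ => by
    rw [Algebra.smul_def]
    exact mul_mem (hk _) (pow_mem hx _)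

theorem valuation_const {c : k} (hc : c ≠ 0) : V.valuation (algebraMap k L c) = 1 := by
  refine le_antisymm ((V.valuation_le_one_iff _).2 (hk c)) ?_
  have h2 := (V.valuation_le_one_iff _).2 (hk c⁻¹)
  rw [map_inv₀, map_inv₀] at h2
  have h0 : V.valuation (algebraMap k L c) ≠ 0 := (_root_.map_ne_zero V.valuation).2 ((_root_.map_ne_zero _).2 hc)
  have h3 := mul_le_mul_right h2 (V.valuation (algebraMap k L c))
  rwa [mul_inv_cancel₀ h0, mul_one] at h3

/-- At infinity a polynomial has the order of its degree. -/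
theorem valuation_aeval_of_notMem {t : L} (ht : t ∉ V) {f : k[X]} (hf : f ≠ 0) :
    V.valuation (aeval t f) = V.valuation t ^ f.natDegree := by
  have ht1 : 1 < V.valuation t := lt_of_not_ge fun h => ht ((V.valuation_le_one_iff _).1 h)
  have ht0 : t ≠ 0 := fun h => ht (h ▸ V.zero_mem)
  letI := invertibleOfNonzero ht0
  have e : eval₂ (algebraMap k L) (⅟t) f.reverse * t ^ f.natDegree = aeval t f :=
    eval₂_reverse_mul_pow _ _ _
  rw [← e, map_mul, map_pow]
  have hs : V.valuation (⅟t) < 1 := by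
    rw [invOf_eq_inv, map_inv₀]
    exact inv_lt_one_of_one_lt₀ ht1
  have hu : V.valuation (eval₂ (algebraMap k L) (⅟t) f.reverse) = 1 := by
    conv_lhs => rw [← X_mul_divX_add f.reverse]
    rw [eval₂_add, eval₂_mul, eval₂_X, eval₂_C, coeff_zero_reverse, add_comm]
    have hlc := valuation_const hk (leadingCoeff_ne_zero.2 hf)
    rw [Valuation.map_add_eq_of_lt_left _ ?_, hlc]
    rw [map_mul, hlc]
    have hmem : (⅟t) ∈ V := (V.valuation_le_one_iff _).1 hs.le
    calc V.valuation (⅟t) * V.valuation (eval₂ (algebraMap k L) (⅟t) f.reverse.divX)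
        ≤ V.valuation (⅟t) * 1 :=
          mul_le_mul_right ((V.valuation_le_one_iff _).2 (aeval_mem hk hmem _)) _
      _ < 1 := by rw [mul_one]; exact hs
  rw [hu, one_mul]

/-- A function of `t` vanishing to high order at all places where `a` vanishes is divisible by `a`. -/
theorem valuation_le {t a : L} (ha : V.valuation a < 1) {F : k[X][X]}
    (hF0 : F.coeff 0 ≠ 0) (hrel : eval₂ (aeval t).toRingHom a F = 0)
    {P Q : k[X]} (hP : P ≠ 0) (hdvd : ∀ i, F.coeff i ≠ 0 → F.coeff i ∣ P) (hPQ : IsCoprime P Q)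
    (htr : ∀ f : k[X], f ≠ 0 → aeval t f ≠ 0) (hQ : 0 < Q.natDegree) {e : ℕ} (he : 2 * P.natDegree < e) :
    V.valuation (aeval t P / aeval t Q ^ e) ≤ V.valuation a := by
  let φ := (aeval t : k[X] →ₐ[k] L).toRingHom
  set R := eval₂ φ a F.divX with hR
  have hrel' : φ (F.coeff 0) = -(a * R) := by
    have h := hrel
    rw [← X_mul_divX_add F, eval₂_add, eval₂_mul, eval₂_X, eval₂_C] at h
    exact eq_neg_of_add_eq_zero_right h
  have hc0 : φ (F.coeff 0) ≠ 0 := htr _ hF0
  rw [map_div₀, map_pow]
  have hQne : V.valuation (aeval t Q) ≠ 0 :=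
    (_root_.map_ne_zero V.valuation).2 (htr _ (ne_zero_of_natDegree_gt hQ))
  by_cases ht : t ∈ V
  · have hRm : R ∈ V := by
      rw [hR, eval₂_eq_sum_range]
      exact sum_mem fun i _ => mul_mem (aeval_mem hk ht _) (pow_mem ((V.valuation_le_one_iff _).1 ha.le) _)
    have h0 : V.valuation (φ (F.coeff 0)) ≤ V.valuation a := by
      rw [hrel', Valuation.map_neg, map_mul]
      calc V.valuation a * V.valuation R ≤ V.valuation a * 1 := mul_le_mul_right ((V.valuation_le_one_iff _).2 hRm) _
        _ = _ := mul_one _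
    obtain ⟨c, hc⟩ := hdvd 0 hF0
    have hPa : V.valuation (aeval t P) ≤ V.valuation a := by
      rw [hc, map_mul, map_mul]
      calc _ ≤ V.valuation a * 1 := mul_le_mul' h0 ((V.valuation_le_one_iff _).2 (aeval_mem hk ht c))
        _ = _ := mul_one _
    have hQ1 : V.valuation (aeval t Q) = 1 := by
      obtain ⟨x, y, hxy⟩ := hPQ
      refine le_antisymm ((V.valuation_le_one_iff _).2 (aeval_mem hk ht Q)) ?_
      by_contra hlt
      rw [not_le] at hlt
      have h := congrArg (fun z => V.valuation (aeval t z)) hxy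
      simp only [map_add, map_mul, map_one] at h
      have h1 : V.valuation (aeval t x * aeval t P) < 1 := by
        rw [map_mul]
        calc _ ≤ 1 * V.valuation a := mul_le_mul' ((V.valuation_le_one_iff _).2 (aeval_mem hk ht x)) hPa
          _ < 1 := by rw [one_mul]; exact ha
      have h2 : V.valuation (aeval t y * aeval t Q) < 1 := by
        rw [map_mul]
        calc _ ≤ 1 * V.valuation (aeval t Q) :=
              mul_le_mul' ((V.valuation_le_one_iff _).2 (aeval_mem hk ht y)) le_rfl
          _ < 1 := by rw [one_mul]; exact hlt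
      exact absurd h (Valuation.map_add_lt _ h1 h2).ne
    rw [hQ1, one_pow, div_one]
    exact hPa
  · have ht1 : 1 < V.valuation t := lt_of_not_ge fun h => ht ((V.valuation_le_one_iff _).1 h)
    set D := P.natDegree
    have hR' : V.valuation R ≤ V.valuation t ^ D := by
      rw [hR, eval₂_eq_sum_range]
      refine Valuation.map_sum_le _ fun i _ => ?_
      rw [map_mul, map_pow]
      by_cases hi : F.divX.coeff i = 0
      · rw [hi, map_zero, map_zero, zero_mul]
        exact zero_le'
      calc _ ≤ V.valuation (φ (F.divX.coeff i)) * 1 := mul_le_mul_right (pow_le_one' ha.le i) _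
        _ ≤ _ := by
          rw [mul_one]
          change V.valuation (aeval t (F.divX.coeff i)) ≤ _
          rw [valuation_aeval_of_notMem hk ht hi]
          rw [coeff_divX] at hi ⊢
          exact pow_le_pow_right₀ ht1.le (natDegree_le_of_dvd (hdvd _ hi) hP)
    have h0 : V.valuation t ^ (F.coeff 0).natDegree ≤ V.valuation a * V.valuation t ^ D := by
      rw [← valuation_aeval_of_notMem hk ht hF0]
      change V.valuation (φ (F.coeff 0)) ≤ _
      rw [hrel', Valuation.map_neg, map_mul]
      exact mul_le_mul_right hR' _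
    rw [valuation_aeval_of_notMem hk ht hP, valuation_aeval_of_notMem hk ht (ne_zero_of_natDegree_gt hQ),
      ← pow_mul, div_le_iff₀ (pow_pos (zero_lt_one.trans ht1) _)]
    calc V.valuation t ^ D = 1 * V.valuation t ^ D := (one_mul _).symm
      _ ≤ (V.valuation a * V.valuation t ^ D) * V.valuation t ^ D :=
        mul_le_mul_left ((one_le_pow₀ ht1.le).trans h0) _
      _ ≤ V.valuation a * V.valuation t ^ (Q.natDegree * e) := by
        rw [mul_assoc, ← pow_add]
        exact mul_le_mul_right (pow_le_pow_right₀ ht1.le (le_trans (by omega) (Nat.le_mul_of_pos_left e hQ))) _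

end Valuation

/-- There is an irreducible polynomial prime to a given one. -/
theorem exists_coprime {k : Type u} [Field k] (P : k[X]) (hP : P ≠ 0) :
    ∃ Q : k[X], Irreducible Q ∧ IsCoprime P Q := by
  obtain ⟨Q, hQ, hdvd⟩ := WfDvdMonoid.exists_irreducible_factor (a := X * P + 1) (fun h => by
    have h1 := natDegree_eq_zero_of_isUnit h
    rw [natDegree_add_eq_left_of_natDegree_lt (by rw [natDegree_one, natDegree_X_mul hP]; omega),
      natDegree_X_mul hP] at h1
    omega) (fun h => by
    have h1 := congrArg natDegree h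
    rw [natDegree_add_eq_left_of_natDegree_lt (by rw [natDegree_one, natDegree_X_mul hP]; omega),
      natDegree_X_mul hP, natDegree_zero] at h1
    omega)
  obtain ⟨c, hc⟩ := hdvd
  exact ⟨Q, hQ, -X, c, by rw [mul_comm c Q, ← hc]; ring⟩

section Main

variable {k : Type u} [Field k] {B : Type u} [CommRing B] [Algebra k B]

set_option maxHeartbeats 1000000 in
/-- The function is integral over the local ring at `z` in every residue domain. -/
theorem exists_monic_mem {A : Type u} [CommRing A] [Algebra k A] {C : Type u} [CommRing C] [Algebra B C]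
    {z : Ideal B} [z.IsPrime] [IsLocalization.AtPrime C z]
    (hz : ∀ q : Ideal B, q.IsPrime → q ≤ z → q = z ∨ q ∈ minimalPrimes B)
    (ψ : B →ₐ[k] A) (χ : C →+* A) (hχ : ∀ b, χ (algebraMap B C b) = ψ b) {a : B} (haz : a ∈ z)
    (hfrac : ∀ y : A, ∃ b s : B, IsUnit (ψ s) ∧ y * ψ s = ψ b) (p : Ideal A) [p.IsPrime] (t : A)
    (hap : ψ a ∉ p) (htr : ∀ f : k[X], f ≠ 0 → aeval t f ∉ p) {F : k[X][X]} (hF0 : F.coeff 0 ≠ 0)
    (hFp : eval₂ (aeval t).toRingHom (ψ a) F ∈ p) {P Q : k[X]} (hP : P ≠ 0)
    (hdvd : ∀ i, F.coeff i ≠ 0 → F.coeff i ∣ P) (hPQ : IsCoprime P Q) (hQd : 0 < Q.natDegree) {e : ℕ}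
    (he : 2 * P.natDegree < e) (x : A) (hx : x * ψ a * aeval t Q ^ e = aeval t P) :
    ∃ f : C[X], f.Monic ∧ eval₂ χ x f ∈ p := by
  let L := FractionRing (A ⧸ p)
  let π : A →+* L := (algebraMap (A ⧸ p) L).comp (Ideal.Quotient.mk p)
  have hπ0 : ∀ y, π y = 0 ↔ y ∈ p := fun y => by
    rw [RingHom.comp_apply, map_eq_zero_iff _ (IsFractionRing.injective (A ⧸ p) L), Ideal.Quotient.eq_zero_iff_mem]
  let ι : C →+* L := π.comp χ
  letI : Algebra k L := (π.comp (algebraMap k A)).toAlgebra
  have hev : ∀ f : k[X], π (aeval t f) = aeval (π t) f := fun f => by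
    rw [aeval_def, aeval_def, hom_eval₂]
    rfl
  have htr' : ∀ f : k[X], f ≠ 0 → aeval (π t) f ≠ 0 := fun f hf h => by
    rw [← hev, hπ0] at h
    exact htr f hf h
  suffices hmem : π x ∈ (integralClosure (Subring.closure (Set.range ι)) L).toSubring by
    obtain ⟨f, hf, hf0⟩ := (show IsIntegral (Subring.closure (Set.range ι)) (π x) from hmem)
    have hcl : Subring.closure (Set.range ι) = ι.range := by rw [← RingHom.coe_range, Subring.closure_eq]
    have hl : f.map (Subring.closure (Set.range ι)).subtype ∈ Polynomial.lifts ι := by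
      rw [lifts_iff_coeff_lifts]
      intro n
      rw [coeff_map]
      exact hcl.le (f.coeff n).2
    obtain ⟨g, hg, -, hgm⟩ := lifts_and_degree_eq_and_monic hl (hf.map _)
    refine ⟨g, hgm, (hπ0 _).1 ?_⟩
    rw [hom_eval₂, ← eval_map, hg, eval_map]
    exact hf0
  rw [← iInf_valuationSubring_superset, Subring.mem_iInf]
  rintro ⟨V, hV⟩
  have hiA : ∀ b, π (ψ b) ∈ V := fun b => hV ⟨algebraMap B C b, congrArg π (hχ b)⟩
  have hk : ∀ c : k, algebraMap k L c ∈ V := fun c => by
    have := hiA (algebraMap k B c)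
    rwa [ψ.commutes] at this
  apply (V.valuation_le_one_iff _).1
  by_cases hva : V.valuation (π (ψ a)) < 1
  · have hrel : eval₂ (aeval (π t)).toRingHom (π (ψ a)) F = 0 := by
      have h1 := (hπ0 _).2 hFp
      rw [hom_eval₂] at h1
      convert h1 using 2
      exact RingHom.ext fun f => (hev f).symm
    have h := valuation_le hk hva hF0 hrel hP hdvd hPQ htr' hQd he
    have ha0 : π (ψ a) ≠ 0 := fun h0 => hap ((hπ0 _).1 h0)
    have hQ0 : aeval (π t) Q ^ e ≠ 0 := pow_ne_zero _ (htr' Q (ne_zero_of_natDegree_gt hQd))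
    have ex : π x = aeval (π t) P / aeval (π t) Q ^ e / π (ψ a) := by
      rw [eq_div_iff ha0, eq_div_iff hQ0, ← hev, ← hev, ← map_pow, ← map_mul, ← map_mul, hx]
    rw [ex, map_div₀]
    exact div_le_one_of_le₀ h zero_le'
  · -- `a` is a unit of `V`: then `V` is everything
    have hab : ∀ b, ψ b ∉ p → V.valuation (π (ψ b)) = 1 := by
      intro b hb
      refine le_antisymm ((V.valuation_le_one_iff _).2 (hiA b)) (le_of_not_gt fun hlt => hb ?_)
      let c : Ideal B :=
        { carrier := {y | V.valuation (π (ψ y)) < 1}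
          add_mem' := fun {y y'} hy hy' => by
            simp only [Set.mem_setOf_eq, map_add] at *
            exact Valuation.map_add_lt _ hy hy'
          zero_mem' := by simp
          smul_mem' := fun r y hy => by
            simp only [Set.mem_setOf_eq, smul_eq_mul, map_mul] at *
            calc _ ≤ 1 * V.valuation (π (ψ y)) := mul_le_mul' ((V.valuation_le_one_iff _).2 (hiA r)) le_rfl
              _ < 1 := by rwa [one_mul] }
      haveI hc : c.IsPrime := ⟨fun h => by
          have : (1 : B) ∈ c := h ▸ Submodule.mem_top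
          exact absurd (show V.valuation (π (ψ 1)) < 1 from this) (by simp), fun {y y'} hyy => by
          by_contra! hh
          change ¬ V.valuation (π (ψ y)) < 1 ∧ ¬ V.valuation (π (ψ y')) < 1 at hh
          change V.valuation (π (ψ (y * y'))) < 1 at hyy
          rw [map_mul, map_mul, map_mul, le_antisymm ((V.valuation_le_one_iff _).2 (hiA y)) (not_lt.1 hh.1),
            le_antisymm ((V.valuation_le_one_iff _).2 (hiA y')) (not_lt.1 hh.2), one_mul] at hyy
          exact lt_irrefl _ hyy⟩
      have hcz : c ≤ z := fun y hy => by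
        by_contra hyz
        obtain ⟨y', hy'⟩ := (IsLocalization.map_units C (⟨y, hyz⟩ : z.primeCompl)).exists_left_inv
        have hm : ι y' ∈ V := hV ⟨y', rfl⟩
        have he := congrArg (fun w => V.valuation (ι w)) hy'
        simp only [map_mul, map_one, ι, RingHom.comp_apply, hχ] at he
        exact absurd he (lt_of_le_of_lt (mul_le_mul' ((V.valuation_le_one_iff _).2 hm) le_rfl)
          (by rw [one_mul]; exact hy)).ne
      have hcm : c ∈ minimalPrimes B := (hz c hc hcz).resolve_left fun h =>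
        hva (show a ∈ c from h ▸ haz)
      have hpc : p.comap ψ ≤ c := fun y hy => by
        change V.valuation (π (ψ y)) < 1
        rw [(hπ0 _).2 hy, map_zero]
        exact zero_lt_one
      have heq : c = p.comap ψ := le_antisymm (hcm.2 ⟨Ideal.IsPrime.comap ψ, bot_le⟩ hpc) hpc
      exact (show b ∈ p.comap ψ from heq ▸ (show b ∈ c from hlt))
    obtain ⟨b, s, hs, hxs⟩ := hfrac x
    have he := congrArg (fun w => V.valuation (π w)) hxs
    simp only [map_mul] at he
    rw [hab s (fun hm => ‹p.IsPrime›.ne_top (p.eq_top_of_isUnit_mem hm hs)), mul_one] at he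
    rw [he]
    exact (V.valuation_le_one_iff _).2 (hiA b)

variable [IsNoetherianRing B] [IsReduced B]

set_option maxHeartbeats 400000 in
/-- A power of a suitable rational function of `t` is regular near `z`. -/
theorem exists_regular_pow (z : Ideal B) [z.IsMaximal]
    (hz : ∀ p : Ideal B, p.IsPrime → p ≤ z → p = z ∨ p ∈ minimalPrimes B)
    (a : B) (haz : a ∈ z) (t : Localization.Away a)
    (htr : ∀ p : Ideal (Localization.Away a), p.IsPrime → p.comap (algebraMap B _) ≤ z →
      ∀ f : k[X], f ≠ 0 → aeval t f ∉ p)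
    (hrel : ∀ p : Ideal (Localization.Away a), p.IsPrime → p.comap (algebraMap B _) ≤ z →
      ∃ F : k[X][X], F.coeff 0 ≠ 0 ∧
        eval₂ (aeval t).toRingHom (algebraMap B (Localization.Away a) a) F ∈ p) :
    ∃ (P Q : k[X]) (b G : B), P ≠ 0 ∧ P.natDegree < Q.natDegree ∧ b ∉ z ∧
      algebraMap B (Localization.Away a) G * aeval t Q = algebraMap B _ b * aeval t P := by
  classical
  let Ba := Localization.Away a
  have ha_unit : IsUnit (algebraMap B Ba a) := IsLocalization.Away.algebraMap_isUnit a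
  let Ω : Set (PrimeSpectrum Ba) := {p | p.asIdeal.comap (algebraMap B Ba) ≤ z}
  have hΩmin : ∀ p : Ideal Ba, p.IsPrime → p.comap (algebraMap B Ba) ≤ z →
      p.comap (algebraMap B Ba) ∈ minimalPrimes B := fun p hp hle => by
    refine (hz _ inferInstance hle).resolve_left fun h => ?_
    exact hp.ne_top (p.eq_top_of_isUnit_mem (show algebraMap B Ba a ∈ p from (h ▸ haz : a ∈ p.comap _)) ha_unit)
  have hfin : Ω.Finite := by
    have h1 : Set.InjOn (fun p : PrimeSpectrum Ba => p.asIdeal.comap (algebraMap B Ba)) Ω := fun p _ q _ h =>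
      PrimeSpectrum.localization_comap_injective Ba (Submonoid.powers a) (PrimeSpectrum.ext h)
    exact Set.Finite.of_finite_image ((minimalPrimes.finite_of_isNoetherianRing B).subset
      (by rintro _ ⟨p, hp, rfl⟩; exact hΩmin _ p.isPrime hp)) h1
  choose F hF0 hFp using fun p : Ω => hrel p.1.asIdeal p.1.isPrime p.2
  haveI := hfin.fintype
  let P : k[X] := ∏ p : Ω, ∏ i ∈ (F p).support, (F p).coeff i
  have hP : P ≠ 0 := Finset.prod_ne_zero_iff.2 fun p _ => Finset.prod_ne_zero_iff.2 fun i hi => mem_support_iff.1 hi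
  have hdvd : ∀ p : Ω, ∀ i, (F p).coeff i ≠ 0 → (F p).coeff i ∣ P := fun p i hi =>
    (Finset.dvd_prod_of_mem _ (mem_support_iff.2 hi)).trans
      (Finset.dvd_prod_of_mem (fun p : Ω => ∏ i ∈ (F p).support, (F p).coeff i) (Finset.mem_univ p))
  obtain ⟨Q, hQi, hPQ⟩ := exists_coprime P hP
  have hQd : 0 < Q.natDegree := hQi.natDegree_pos
  let e := 2 * P.natDegree + 1
  -- the ring of the punctured neighbourhood
  let M := Algebra.algebraMapSubmonoid Ba z.primeCompl
  let A := Localization M
  let φ : Ba →ₐ[k] A := IsScalarTower.toAlgHom k Ba A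
  let ψ : B →ₐ[k] A := φ.comp (IsScalarTower.toAlgHom k B Ba)
  haveI : IsReduced A := by
    haveI : IsReduced Ba := isReduced_localizationPreserves (Submonoid.powers a) _ inferInstance
    exact isReduced_localizationPreserves M _ inferInstance
  have hψM : ∀ s, s ∉ z → IsUnit (ψ s) := fun s hs => IsLocalization.map_units A (⟨_, s, hs, rfl⟩ : M)
  have hle : ∀ p : Ideal A, p.IsPrime → (p.comap φ).comap (algebraMap B Ba) ≤ z := fun p hp b hb => by
    by_contra hbz
    exact hp.ne_top (p.eq_top_of_isUnit_mem (show ψ b ∈ p from hb) (hψM b hbz))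
  have hU : IsUnit (φ (aeval t Q)) := by
    by_contra hn
    obtain ⟨m, hm, hQm⟩ := exists_max_ideal_of_mem_nonunits hn
    haveI := hm.isPrime
    exact htr (m.comap φ) inferInstance (hle m hm.isPrime) Q hQi.ne_zero hQm
  have hau : IsUnit (ψ a) := ha_unit.map φ
  let x : A := φ (aeval t P) * ↑(hU.pow e).unit⁻¹ * ↑hau.unit⁻¹
  have hx : x * ψ a * φ (aeval t Q) ^ e = φ (aeval t P) := by
    calc x * ψ a * φ (aeval t Q) ^ e
        = φ (aeval t P) * (↑(hU.pow e).unit⁻¹ * φ (aeval t Q) ^ e) * (↑hau.unit⁻¹ * ψ a) := by ring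
      _ = _ := by rw [IsUnit.val_inv_mul, IsUnit.val_inv_mul, mul_one, mul_one]
  have hsurj : ∀ y : A, ∃ (b : B) (s : B) (n : ℕ), s ∉ z ∧ y * ψ s * ψ a ^ n = ψ b := fun y => by
    obtain ⟨⟨y₁, ⟨_, s, hs, rfl⟩⟩, hy⟩ := IsLocalization.surj M y
    obtain ⟨⟨b, ⟨_, n, rfl⟩⟩, hb⟩ := IsLocalization.surj (Submonoid.powers a) y₁
    refine ⟨b, s, n, hs, ?_⟩
    calc y * ψ s * ψ a ^ n = φ y₁ * φ (algebraMap B Ba (a ^ n)) := by
          rw [← map_pow]; exact congrArg (· * φ (algebraMap B Ba (a ^ n))) hy
      _ = φ (algebraMap B Ba b) := by rw [← map_mul]; exact congrArg φ hb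
  -- `x` is integral over the local ring at `z`
  let C := Localization.AtPrime z
  let χ : C →+* A := IsLocalization.lift (M := z.primeCompl) (g := ψ.toRingHom) fun s => hψM s.1 s.2
  have hχ : ∀ b, χ (algebraMap B C b) = ψ b := fun b => IsLocalization.lift_eq _ b
  have hinj : Function.Injective fun p : PrimeSpectrum A =>
      (⟨⟨p.asIdeal.comap φ, Ideal.IsPrime.comap φ⟩, hle _ p.isPrime⟩ : Ω) := fun p q h =>
    PrimeSpectrum.localization_comap_injective A M (congrArg Subtype.val h)
  haveI : Finite (PrimeSpectrum A) := Finite.of_injective _ hinj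
  haveI := Fintype.ofFinite (PrimeSpectrum A)
  have key : ∀ p : PrimeSpectrum A, ∃ f : C[X], f.Monic ∧ eval₂ χ x f ∈ p.asIdeal := fun p => by
    let p' : Ω := ⟨⟨p.asIdeal.comap φ, Ideal.IsPrime.comap φ⟩, hle _ p.isPrime⟩
    refine exists_monic_mem (C := C) hz ψ χ hχ haz (fun y => ?_) p.asIdeal (φ t)
      (fun hm => p.isPrime.ne_top (p.asIdeal.eq_top_of_isUnit_mem hm hau))
      (fun f hf hm => htr _ p'.1.isPrime p'.2 f hf (by rw [aeval_algHom_apply] at hm; exact hm))
      (hF0 p') ?_ hP (hdvd p') hPQ hQd (e := e) (Nat.lt_succ_self _) x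
      (by rw [aeval_algHom_apply, aeval_algHom_apply]; exact hx)
    · obtain ⟨b, s, n, hs, h⟩ := hsurj y
      exact ⟨b, s * a ^ n, by rw [map_mul, map_pow]; exact (hψM s hs).mul (hau.pow n),
        by rw [map_mul, map_pow, ← mul_assoc]; exact h⟩
    · have h1 : φ (eval₂ (aeval t).toRingHom (algebraMap B Ba a) (F p')) ∈ p.asIdeal := hFp p'
      rw [show φ (eval₂ (aeval t).toRingHom (algebraMap B Ba a) (F p')) =
        (φ : Ba →+* A) (eval₂ (aeval t).toRingHom (algebraMap B Ba a) (F p')) from rfl, hom_eval₂] at h1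
      have hcomp : (φ : Ba →+* A).comp (aeval t).toRingHom = (aeval (φ t)).toRingHom :=
        RingHom.ext fun g => (aeval_algHom_apply φ t g).symm
      rw [hcomp] at h1
      exact h1
  choose f hfm hfp using key
  letI : Algebra C A := χ.toAlgebra
  have hint : IsIntegral C x := by
    refine ⟨∏ p, f p, monic_prod_of_monic _ _ fun p _ => hfm p, ?_⟩
    change eval₂ χ x (∏ p, f p) = 0
    refine IsReduced.eq_zero _ ?_
    rw [nilpotent_iff_mem_prime]
    intro p hp
    rw [eval₂_finsetProd]
    exact Ideal.prod_mem _ (Finset.mem_univ (⟨p, hp⟩ : PrimeSpectrum A)) (hfp ⟨p, hp⟩)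
  -- a common denominator for the powers of `x`
  obtain ⟨S, hS⟩ := IsIntegral.fg_adjoin_singleton hint
  have hden : ∀ y : A, ∃ n : ℕ, ∃ c : C, χ c = y * ψ a ^ n := fun y => by
    obtain ⟨b, s, n, hs, h⟩ := hsurj y
    refine ⟨n, IsLocalization.mk' C b (⟨s, hs⟩ : z.primeCompl), ?_⟩
    refine (IsLocalization.lift_mk'_spec _ _ _ _).2 ?_
    change ψ b = ψ s * (y * ψ a ^ n)
    rw [← h]; ring
  choose n c hc using hden
  obtain ⟨N, hN0, hN⟩ : ∃ N, 0 < N ∧ ∀ i ∈ S, n i ≤ N :=
    ⟨S.sup n + 1, Nat.succ_pos _, fun i hi => (Finset.le_sup hi).trans (Nat.le_succ _)⟩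
  have hall : ∀ y ∈ Algebra.adjoin C {x}, ∀ m, N ≤ m → ∃ c : C, χ c = y * ψ a ^ m := by
    intro y hy m hm
    have : y ∈ Submodule.span C (S : Set A) := by rw [hS]; exact hy
    clear hy
    induction this using Submodule.span_induction with
    | mem y h =>
      have hni : n y ≤ m := (hN y h).trans hm
      refine ⟨c y * algebraMap B C a ^ (m - n y), ?_⟩
      rw [map_mul, map_pow, hc, hχ, mul_assoc, ← pow_add, Nat.add_sub_cancel' hni]
    | zero => exact ⟨0, by simp⟩
    | add y y' h h' ih ih' =>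
      obtain ⟨d, hd⟩ := ih
      obtain ⟨d', hd'⟩ := ih'
      exact ⟨d + d', by rw [map_add, hd, hd', add_mul]⟩
    | smul r y h ih =>
      obtain ⟨d, hd⟩ := ih
      exact ⟨r * d, by rw [map_mul, hd, Algebra.smul_def, ← mul_assoc]; rfl⟩
  have hxmem : x ∈ Algebra.adjoin C ({x} : Set A) := Algebra.subset_adjoin (Set.mem_singleton x)
  obtain ⟨d, hd⟩ := hall (x ^ N) (pow_mem hxmem N) N (Nat.le_refl N)
  obtain ⟨b₀, ⟨s₀, hs₀⟩, rfl⟩ := IsLocalization.exists_mk'_eq z.primeCompl d
  have hd' : ψ b₀ = ψ s₀ * (x ^ N * ψ a ^ N) := (IsLocalization.lift_mk'_spec _ _ _ _).1 hd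
  have hψφ : ∀ b, φ (algebraMap B Ba b) = ψ b := fun b => rfl
  have hQN : φ (aeval t (Q ^ (e * N))) = (φ (aeval t Q) ^ e) ^ N :=
    (congrArg φ (map_pow (aeval t) Q (e * N))).trans ((map_pow φ (aeval t Q) (e * N)).trans (pow_mul _ e N))
  have hPN : φ (aeval t (P ^ N)) = (x * ψ a * φ (aeval t Q) ^ e) ^ N :=
    (congrArg φ (map_pow (aeval t) P N)).trans ((map_pow φ (aeval t P) N).trans (congrArg (· ^ N) hx.symm))
  have hNQ : φ (algebraMap B Ba b₀ * aeval t (Q ^ (e * N))) = φ (algebraMap B Ba s₀ * aeval t (P ^ N)) := by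
    rw [map_mul φ (algebraMap B Ba b₀), map_mul φ (algebraMap B Ba s₀), hψφ, hψφ, hQN, hPN, hd']
    generalize φ (aeval t Q) ^ e = q
    rw [mul_pow, mul_pow]
    ring
  obtain ⟨⟨_, s₁, hs₁, rfl⟩, hs⟩ := IsLocalization.exists_of_eq (M := M) (S := A) hNQ
  refine ⟨P ^ N, Q ^ (e * N), s₁ * s₀, s₁ * b₀, pow_ne_zero _ hP, ?_, z.primeCompl.mul_mem hs₁ hs₀, ?_⟩
  · rw [natDegree_pow, natDegree_pow]
    calc N * P.natDegree < N * e := Nat.mul_lt_mul_of_pos_left (by omega) hN0
      _ = e * N := mul_comm _ _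
      _ ≤ e * N * Q.natDegree := Nat.le_mul_of_pos_right _ hQd
  · rw [map_mul, map_mul, mul_assoc, mul_assoc]
    exact hs

end Main

end DimOneSep
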