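import Groth.Agent.DimOneSep.GeomRed
import Groth.Agent.CMFlatLib.Open
import Groth.Agent.EquidimLib.DimBetween

/-!
# Curves with geometrically reduced fibres are Cohen–Macaulay
-/

set_option autoImplicit false
set_option linter.style.haveILetI false
set_option backward.isDefEq.respectTransparency false
set_option backward.isDefEq.respectTransparency.types false
universe u

open CategoryTheory CategoryTheory.Limits AlgebraicGeometry AlgSp AlgSpLib CurvOpenLib IsLocalRing

namespace CurvGeomFib

/-- A reduced Noetherian local ring of dimension at most one is Cohen–Macaulay. -/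
theorem cm_of_reduced (R : Type u) [CommRing R] [IsLocalRing R] [IsNoetherianRing R] [_root_.IsReduced R]
    (hd : ringKrullDim R ≤ ((1 : ℕ) : WithBot ℕ∞)) : LocCoh.IsCohenMacaulayLocalRing R := by
  rw [CMFlatLib.isCohenMacaulayLocalRing_iff_isCM]
  by_cases hm : IsLocalRing.maximalIdeal R = ⊥
  · have hf : IsField R := IsLocalRing.isField_iff_maximalIdeal_eq.2 hm
    exact CatLib.isCM_of_hasSeqIn (CommAlgDim.hasSeqIn_zero _) (ringKrullDim_eq_zero_of_isField hf).le
  obtain ⟨r, hr, hreg⟩ : ∃ r ∈ IsLocalRing.maximalIdeal R, IsSMulRegular R r := by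
    by_contra hc
    simp only [not_exists, not_and] at hc
    have hsub : (IsLocalRing.maximalIdeal R : Set R) ⊆ ⋃ p ∈ associatedPrimes R R, p := fun r hr =>
      (biUnion_associatedPrimes_eq_compl_regular R R).ge (hc r hr)
    obtain ⟨p, hp, hle'⟩ := (Ideal.subset_union_prime_finite (associatedPrimes.finite R R) ⊥ ⊥
      (fun p hp _ _ => hp.isPrime)).mp hsub
    obtain rfl := (IsLocalRing.maximalIdeal.isMaximal R).eq_of_le hp.isPrime.ne_top hle'
    obtain ⟨-, a, ha⟩ := isAssociatedPrime_iff.1 hp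
    have hk : ∀ z, z ∈ IsLocalRing.maximalIdeal R ↔ z * a = 0 := fun z => by
      rw [ha, Submodule.mem_colon_singleton, Submodule.mem_bot, smul_eq_mul]
    by_cases hau : IsUnit a
    · exact hm ((Submodule.eq_bot_iff _).2 fun z hz => hau.mul_left_eq_zero.1 ((hk z).1 hz))
    · have ha0 : a = 0 := IsReduced.eq_zero a ⟨2, by
        rw [sq]; exact (hk a).1 ((IsLocalRing.mem_maximalIdeal a).2 hau)⟩
      exact (IsLocalRing.maximalIdeal.isMaximal R).ne_top
        (Ideal.eq_top_iff_one _ |>.2 ((hk 1).2 (by rw [ha0, mul_zero])))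
  exact CatLib.isCM_of_hasSeqIn ⟨[r], rfl, by simpa using hr,
    (RingTheory.Sequence.isWeaklyRegular_singleton_iff R r).mpr hreg⟩ hd

theorem isCMAt_of_gredAt {U V : Scheme.{u}} (h : U ⟶ V) [Flat h] [LocallyOfFiniteType h] (u : U)
    (hd : ∀ v, FlatMor.fibreDimAt h v ≤ 1) (H : GRedAt h u) : MoreMor.IsCMAt h u := by
  let F := h.fiber (h u)
  let z := h.asFiber u
  haveI : IsLocallyNoetherian F := CurvOpenLib.noeth_fibre h _
  haveI : _root_.IsReduced (F.presheaf.stalk z) := by
    let κ := IsLocalRing.ResidueField (V.presheaf.stalk (h u))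
    let p := h.fiberToSpecResidueField (h u)
    let π : FBase.bc p κ ⟶ F := FBase.bcπ p κ
    haveI : IsIso π := by
      haveI : IsIso (Spec.map (CommRingCat.ofHom (algebraMap κ κ))) := by
        rw [Algebra.algebraMap_self, CommRingCat.ofHom_id, Spec.map_id]; infer_instance
      exact inferInstanceAs (IsIso (pullback.fst p _))
    obtain ⟨z', hz'⟩ := π.surjective z
    haveI := H κ z' hz'
    rw [← hz']
    exact isReduced_of_injective (asIso (π.stalkMap z')).commRingCatIsoToRingEquiv
      (asIso (π.stalkMap z')).commRingCatIsoToRingEquiv.injective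
  refine ⟨Flat.stalkMap h u, cm_of_reduced _ ?_⟩
  have hF : DimOneSep.DimLEOne F := DimOneSep.dimLEOne_of_localDim fun w => by
    have key : ∀ (v : U) (s : V) (w : h.fiber s), h.fiberι s w = v → FlatMor.localDim (h.fiber s) w ≤ 1 := by
      intro v s w hw
      obtain rfl : h v = s := hw ▸ (h.range_fiberι s).subset ⟨w, rfl⟩
      rw [(h.fiberι (h v)).isEmbedding.injective (hw.trans (h.fiberι_asFiber v).symm)]
      exact hd v
    exact key _ _ w rfl
  refine (DimIneqLib.stalk_dim_le_dim z).trans (iSup_le fun l => ?_)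
  suffices hl : l.length ≤ 1 by exact_mod_cast hl
  by_contra! hl
  let g : Fin (l.length + 1) → F := fun i => (l i).isIrreducible.genericPoint
  have hg : ∀ i, closure ({g i} : Set F) = (l i : Set F) := fun i => by
    rw [IsIrreducible.genericPoint_closure_eq, (l i).isClosed.closure_eq]
  have hstep : ∀ i j, i < j → g j ⤳ g i ∧ g j ≠ g i := fun i j hij => by
    have hlt : (l i : Set F) ⊂ (l j : Set F) := l.strictMono hij
    refine ⟨specializes_iff_closure_subset.2 ?_, fun he => hlt.ne ?_⟩
    · rw [hg, hg]; exact hlt.subset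
    · rw [← hg, ← hg, he]
  obtain ⟨h21, h21'⟩ := hstep ⟨1, by omega⟩ ⟨2, by omega⟩ (by simp [Fin.lt_def])
  obtain ⟨h10, h10'⟩ := hstep ⟨0, by omega⟩ ⟨1, by omega⟩ (by simp [Fin.lt_def])
  exact h10' (hF _ _ _ h21 h10 h21')

theorem locP_cm_of_geomFib_isReduced {S : Scheme.{u}} {n : ℕ} {A : CurvSt.SpFamObj S n} (hA : CurvSt.IsCurveFam A)
    (h : CurvSt.GeomFib (fun _ _ _ X' _ _ => IsReduced X') A) :
    LocP (fun _ _ g => ∀ x, MoreMor.IsCMAt g x) A.f := by
  intro U V a b g ha hb e u
  haveI : Flat g.left := hA.2.1 a b g ha hb e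
  haveI : LocallyOfFinitePresentation g.left := hA.2.2.2.1.1 a b g ha hb e
  refine isCMAt_of_gredAt g.left u (fun v => ?_) ((geomFib_isReduced_iff hA).1 h a b g ha hb e u)
  have := (hasAtMor_iff (etInv_fibreDim fun c => c ≤ ((1 : ℕ) : WithBot ℕ∞)) ha hb e v).1 (hA.2.2.2.2 _)
  rwa [Nat.cast_one] at this

end CurvGeomFib
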