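import Groth.Agent.DimOneSep.Chart
import Groth.Agent.SpectralQuot.DenseScheme
import Groth.Agent.AlgSpLib.SepLqfScheme
import Groth.Agent.AlgSpRegLib.CutByApps
import Groth.Agent.AlgSpLib.Reduced
import Groth.Agent.AlgSpLib.RelDim
import Groth.Agent.AlgSpLib.Descend
import Groth.Agent.ThickQuotLib.Mor
import Groth.Prelude.Def_StCurv2

/-!
# A separated algebraic space of dimension at most one over a field is a scheme
-/

set_option autoImplicit false
set_option linter.style.haveILetI false
set_option backward.isDefEq.respectTransparency false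
set_option backward.isDefEq.respectTransparency.types false
universe u

open CategoryTheory CategoryTheory.Limits AlgebraicGeometry AlgSp AlgSpLib SpectralQuot Topology Polynomial

namespace DimOneSep

theorem localDim_le_one {X : Type u} [TopologicalSpace X] [T0Space X] [QuasiSober X] (h : DimLEOne X) (x : X) :
    FlatMor.localDim X x ≤ 1 := by
  refine (iInf_le _ ⟨⊤, trivial⟩).trans ((topologicalKrullDim_subspace_le X _).trans ?_)
  refine iSup_le fun l => ?_
  suffices hl : l.length ≤ 1 by exact_mod_cast hl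
  by_contra! hl
  let g : Fin (l.length + 1) → X := fun i => (l i).isIrreducible.genericPoint
  have hg : ∀ i, closure ({g i} : Set X) = (l i : Set X) := fun i => by
    rw [IsIrreducible.genericPoint_closure_eq, (l i).isClosed.closure_eq]
  have hstep : ∀ i j, i < j → g j ⤳ g i ∧ g j ≠ g i := fun i j hij => by
    have hlt : (l i : Set X) ⊂ (l j : Set X) := l.strictMono hij
    refine ⟨specializes_iff_closure_subset.2 ?_, fun he => hlt.ne ?_⟩
    · rw [hg, hg]; exact hlt.subset
    · rw [← hg, ← hg, he]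
  obtain ⟨h21, h21'⟩ := hstep ⟨1, by omega⟩ ⟨2, by omega⟩ (by simp [Fin.lt_def])
  obtain ⟨h10, h10'⟩ := hstep ⟨0, by omega⟩ ⟨1, by omega⟩ (by simp [Fin.lt_def])
  exact h10' (h _ _ _ h21 h10 h21')

variable {k : Type u} [Field k] {S : Scheme.{u}} {t : Spec (CommRingCat.of k) ⟶ S} {X : Sp S}
  {f : X ⟶ (yon S).obj (Over.mk t)}

/-- Charts of a space of relative dimension at most one over a field. -/
theorem dimLEOne_chart (hdim : CurvSt.RelDimLE 1 f) {U : Over S} {a : (yon S).obj U ⟶ X}
    (ha : RepWith @Etale a) (h : U ⟶ Over.mk t) (e : a ≫ f = (yon S).map h) : DimLEOne U.left := by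
  refine dimLEOne_of_localDim fun u => ?_
  have := (hasAtMor_iff (etInv_fibreDim fun c => c ≤ ((1 : ℕ) : WithBot ℕ∞)) ha (repWith_id _ (Over.mk t))
    (e.trans (Category.comp_id _).symm) u).1 (hdim (Points.ofPt a u))
  rw [Nat.cast_one] at this
  exact (fibreDimAt_eq_localDim (k := k) h.left u).symm.trans_le this

theorem dense_of_minimalPrimes {B : Type u} [CommRing B] (O : Set (PrimeSpectrum B))
    (h : ∀ q : PrimeSpectrum B, q.asIdeal ∈ minimalPrimes B → q ∈ O) : Dense O := by
  intro x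
  obtain ⟨q, hq, hqx⟩ := Ideal.exists_minimalPrimes_le (bot_le : ⊥ ≤ x.asIdeal)
  exact ((PrimeSpectrum.le_iff_specializes (⟨q, hq.1.1⟩ : PrimeSpectrum B) x).1 hqx).mem_closed isClosed_closure
    (subset_closure (h _ hq))

theorem mem_of_dense {B : Type u} [CommRing B] [IsNoetherianRing B] {O : Set (PrimeSpectrum B)} (hO : IsOpen O)
    (hd : Dense O) (q : PrimeSpectrum B) (hq : q.asIdeal ∈ minimalPrimes B) : q ∈ O := by
  haveI : IsLocallyNoetherian (Spec (CommRingCat.of B)) := inferInstance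
  obtain ⟨V, -, hqV, hV⟩ := exists_irreducible_affine (X := Spec (CommRingCat.of B)) q fun x hx =>
    PrimeSpectrum.ext (le_antisymm ((PrimeSpectrum.le_iff_specializes x q).2 hx)
      (hq.2 ⟨x.isPrime, bot_le⟩ ((PrimeSpectrum.le_iff_specializes x q).2 hx)))
  obtain ⟨x, hxV, hxO⟩ := hd.inter_open_nonempty _ V.2 ⟨q, hqV⟩
  exact (hV x hxV).mem_open hO hxO

/-- Every point of an affine chart of a reduced separated curve is in the schematic locus. -/
theorem core_point (hX : IsAlgSpace X) (hred : IsReducedSp X) (hsep : IsSeparatedMor f)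
    (hlft : LocP @LocallyOfFiniteType f) (hdim : CurvSt.RelDimLE 1 f) {B : CommRingCat.{u}}
    (u₀ : Spec B ⟶ S) (a : (yon S).obj (Over.mk u₀) ⟶ X) (ha : RepWith @Etale a) (z : Spec B) :
    Points.ofPt a z ∈ schemeLocus X := by
  by_contra hz
  let T : Over S := Over.mk t
  obtain ⟨h, he⟩ := (yon S).map_surjective (a ≫ f)
  have hid : RepWith @Etale (𝟙 ((yon S).obj T)) := repWith_id _ T
  haveI : LocallyOfFiniteType h.left := hlft a (𝟙 _) h ha hid (he.symm.trans (Category.comp_id _).symm)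
  let ψ := Spec.preimage h.left
  letI : Algebra k B := ψ.hom.toAlgebra
  have hψ : Spec.map (CommRingCat.ofHom (algebraMap k B)) = h.left := by
    rw [RingHom.algebraMap_toAlgebra, CommRingCat.ofHom_hom, Spec.map_preimage]
  haveI : Algebra.FiniteType k B := by
    have : LocallyOfFiniteType (Spec.map ψ) := by rw [Spec.map_preimage]; infer_instance
    exact (HasRingHomProperty.Spec_iff (P := @LocallyOfFiniteType)).1 this
  haveI : IsNoetherianRing B := Algebra.FiniteType.isNoetherianRing k B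
  haveI hredS : IsReduced (Spec B) := AlgSpLib.isReduced_of_chart hred ha
  haveI : _root_.IsReduced B := isReduced_of_injective (Scheme.ΓSpecIso B).inv.hom
    (Scheme.ΓSpecIso B).commRingCatIsoToRingEquiv.symm.injective
  have hB : DimLEOne (PrimeSpectrum B) := dimLEOne_chart hdim ha h he.symm
  -- the scheme locus
  have hLo := isOpen_schemeLocus X
  have hLd : Dense (schemeLocus X) :=
    dense_schemeLocus hX (isDecent_of_isQuasiSeparatedMor hX (isQuasiSeparatedMor_of_isSeparatedMor hsep))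
  obtain ⟨M, ⟨eM⟩⟩ := isRepSh_schemeLocus hX
  let jM : (yon S).obj M ⟶ X := eM.hom ≫ openSubι X (schemeLocus X)
  have hjM : RepWith @IsOpenImmersion jM :=
    MorphismProperty.RespectsIso.precomp _ _ _ (repWith_openSubι X hLo)
  haveI : Mono jM := mono_of_openImmersion hjM
  have hjMe : RepWith @Etale jM := repWith_mono (fun _ _ g (_ : IsOpenImmersion g) => (inferInstance : Etale g)) hjM
  let O : (Spec B).Opens := ⟨Points.ofPt a ⁻¹' schemeLocus X, hLo.preimage (Points.continuous_ofPt a)⟩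
  let oo : Over.mk (O.ι ≫ u₀) ⟶ Over.mk u₀ := Over.homMk O.ι rfl
  obtain ⟨l, hl⟩ := (exists_lift_openSub (W := schemeLocus X) ((yon S).map oo ≫ a)).2 fun x => by
    rw [ofPt_yon_comp]; exact x.2
  obtain ⟨m, hm⟩ := (yon S).map_surjective (l ≫ eM.inv)
  have hmj : (yon S).map m ≫ jM = (yon S).map oo ≫ a := by
    rw [hm, Category.assoc, Iso.inv_hom_id_assoc, hl]
  have hao : RepWith @Etale ((yon S).map oo ≫ a) := repWith_comp
    ((repWith_yon_map_iff (P := (@Etale : MorphismProperty Scheme.{u})) oo).2 (inferInstanceAs (Etale O.ι))) ha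
  haveI : Etale m.left := by
    have sq : IsPullback (𝟙 _) ((yon S).map m) ((yon S).map oo ≫ a) jM :=
      isPullback_of_forall_existsUnique (by rw [Category.id_comp, hmj]) fun R x y e =>
        ⟨x, ⟨Category.comp_id x, (cancel_mono jM).1 (by rw [Category.assoc, hmj, e])⟩,
          fun n hn => (Category.comp_id n).symm.trans hn.1⟩
    exact etale_left (repWith_of_isPullback sq hao)
  have hOd : Dense (X := PrimeSpectrum B) O.1 := hLd.preimage (isOpenMap_ofPt ha)
  have hgenO : ∀ q : PrimeSpectrum B, q.asIdeal ∈ minimalPrimes B → q ∈ O := mem_of_dense O.2 hOd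
  -- the parameter on the scheme locus
  obtain ⟨hM, heM⟩ := (yon S).map_surjective (jM ≫ f)
  haveI : LocallyOfFiniteType hM.left := hlft jM (𝟙 _) hM hjMe hid (heM.symm.trans (Category.comp_id _).symm)
  have hmh : m.left ≫ hM.left = O.ι ≫ h.left := by
    have : m ≫ hM = oo ≫ h := (yon S).map_injective (by
      rw [Functor.map_comp, Functor.map_comp, heM, he, reassoc_of% hmj])
    exact congrArg CommaMorphism.left this
  let gens : Set M.left := m.left.base '' {x | (O.ι x).asIdeal ∈ minimalPrimes B}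
  have hgmax : ∀ η ∈ gens, ∀ y, y ⤳ η → y = η := by
    rintro _ ⟨x, hx, rfl⟩ y hy
    obtain ⟨x', hx', rfl⟩ := Flat.generalizingMap m.left hy
    refine congrArg _ (O.ι.isOpenEmbedding.injective (PrimeSpectrum.ext ?_))
    have hle : (O.ι x').asIdeal ≤ (O.ι x).asIdeal :=
      (PrimeSpectrum.le_iff_specializes _ _).2 (hx'.map O.ι.continuous)
    exact le_antisymm hle (hx.2 ⟨(O.ι x').isPrime, bot_le⟩ hle)
  obtain ⟨W, τ, hgW, hτ, hτq⟩ := exists_lqf_open hM.left (dimLEOne_chart hdim hjMe hM heM.symm) gens hgmax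
  -- pull it back to the chart
  let WB : (Spec B).Opens := O.ι ''ᵁ (m.left ⁻¹ᵁ W)
  let iW := O.ι.isoImage (m.left ⁻¹ᵁ W)
  let cW : (WB : Scheme.{u}) ⟶ (W : Scheme.{u}) := iW.inv ≫ (m.left ∣_ W)
  have hWBι : iW.inv ≫ (m.left ⁻¹ᵁ W).ι ≫ O.ι = WB.ι := O.ι.isoImage_inv_ι _
  have hcW : cW ≫ W.ι = iW.inv ≫ (m.left ⁻¹ᵁ W).ι ≫ m.left := by
    rw [Category.assoc, morphismRestrict_ι]
  haveI := hτq
  haveI : LocallyQuasiFinite (cW ≫ τ) := by
    haveI : Etale (m.left ∣_ W) := IsZariskiLocalAtTarget.restrict ‹_› W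
    haveI := locallyQuasiFinite_of_etale (m.left ∣_ W)
    infer_instance
  have hτW : (cW ≫ τ) ≫ lineTo k = WB.ι ≫ Spec.map (CommRingCat.ofHom (algebraMap k B)) := by
    rw [Category.assoc, hτ, reassoc_of% hcW, hmh, hψ, ← hWBι, Category.assoc, Category.assoc]
  have hzW : (z : Spec B) ∉ WB := by
    rintro ⟨x, -, hx⟩
    exact hz (hx ▸ x.2)
  have hgen : ∀ q : PrimeSpectrum B, q.asIdeal ∈ minimalPrimes B → q ∈ WB := fun q hq =>
    ⟨⟨q, hgenO q hq⟩, hgW ⟨_, hq, rfl⟩, rfl⟩
  have hzmax : (z : PrimeSpectrum B).asIdeal.IsMaximal := by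
    obtain ⟨q, hq, hqz⟩ := Ideal.exists_minimalPrimes_le (bot_le : ⊥ ≤ (z : PrimeSpectrum B).asIdeal)
    refine isMaximal_of_lt hB q _ hq.1.1 (z : PrimeSpectrum B).isPrime (lt_of_le_of_ne hqz fun e => hzW ?_)
    exact (PrimeSpectrum.ext e : (⟨q, hq.1.1⟩ : PrimeSpectrum B) = z) ▸ hgen ⟨q, hq.1.1⟩ hq
  obtain ⟨b, d, γ, jb, ja, hbz, hγq, hγ, hd, hjb, hja, H⟩ :=
    exists_local_parameter hB WB (cW ≫ τ) hτW z hzmax hzW hgen
  haveI := hγq
  haveI : IsOpenImmersion (awayι b) := IsOpenImmersion.of_isLocalization b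
  haveI : IsOpenImmersion (jb ≫ awayι b) := by rw [hjb]; exact IsOpenImmersion.of_isLocalization d
  haveI : IsOpenImmersion jb := IsOpenImmersion.of_comp jb (awayι b)
  let U₁ : Over S := Over.mk (awayι b ≫ u₀)
  let ob : U₁ ⟶ Over.mk u₀ := Over.homMk (awayι b) rfl
  let a₁ : (yon S).obj U₁ ⟶ X := (yon S).map ob ≫ a
  have ha₁ : RepWith @Etale a₁ := repWith_comp
    ((repWith_yon_map_iff (P := (@Etale : MorphismProperty Scheme.{u})) ob).2 (inferInstanceAs (Etale (awayι b)))) ha
  let W' : Set (Points X) := Set.range (Points.ofPt a₁)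
  have hW' : IsOpen W' := (isOpenMap_ofPt ha₁).isOpen_range
  obtain ⟨l₁, hl₁⟩ := (exists_lift_openSub (W := W') a₁).2 fun x => ⟨x, rfl⟩
  haveI : Mono (openSubι X W') := mono_openSubι X W'
  have hl₁e : RepWith @Etale l₁ := by
    have sq : IsPullback (𝟙 _) l₁ a₁ (openSubι X W') :=
      isPullback_of_forall_existsUnique (by rw [Category.id_comp, hl₁]) fun R x y e =>
        ⟨x, ⟨Category.comp_id x, (cancel_mono (openSubι X W')).1 (by rw [Category.assoc, hl₁, e])⟩,
          fun n hn => (Category.comp_id n).symm.trans hn.1⟩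
    exact repWith_of_isPullback sq ha₁
  have hl₁s : RepWith @Surjective l₁ := by
    refine (repWith_surjective_iff hl₁e.rep).2 fun w => ?_
    obtain ⟨x, hx⟩ : Points.map (openSubι X W') w ∈ W' := (range_openSubι X (W := W')).subset ⟨w, rfl⟩
    refine ⟨Points.ofPt (𝟙 _) x, injective_map_of_mono (openSubι X W') ?_⟩
    rw [← Points.map_comp, hl₁, Points.map_ofPt, Category.id_comp, hx]
  let A : Over S := Over.mk (lineTo k ≫ t)
  let γ' : U₁ ⟶ A := Over.homMk γ (by
    show γ ≫ lineTo k ≫ t = awayι b ≫ u₀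
    rw [reassoc_of% hγ, hψ]
    exact congrArg (awayι b ≫ ·) (Over.w h))
  -- the function descends
  obtain ⟨F, hF⟩ := exists_desc_of_atlas hl₁e hl₁s ((yon S).map γ') fun Z g g' hgg => by
    obtain ⟨R, p, q, sqR⟩ := exists_isPullback_yon l₁ l₁ hl₁e.rep
    haveI : Etale p.left := etale_left (repWith_of_isPullback sqR.flip hl₁e)
    haveI : Etale q.left := etale_left (repWith_of_isPullback sqR hl₁e)
    have hpa : RepWith @Etale ((yon S).map p ≫ a₁) := repWith_comp (repWith_of_isPullback sqR.flip hl₁e) ha₁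
    haveI : IsReduced R.left := AlgSpLib.isReduced_of_chart hred hpa
    suffices hpq : p ≫ γ' = q ≫ γ' by
      obtain ⟨r, hr⟩ := (yon S).map_surjective (sqR.lift ((yon S).map g) ((yon S).map g') hgg)
      have h1 : r ≫ p = g := (yon S).map_injective (by rw [Functor.map_comp, hr, sqR.lift_fst])
      have h2 : r ≫ q = g' := (yon S).map_injective (by rw [Functor.map_comp, hr, sqR.lift_snd])
      rw [← h1, ← h2, ← Functor.map_comp, ← Functor.map_comp, Category.assoc, Category.assoc, hpq]
    refine Over.OverMorphism.ext ?_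
    let D : (U₁.left).Opens := jb.opensRange
    have hDd : Dense (X := PrimeSpectrum (Localization.Away b)) D.1 := dense_of_minimalPrimes _ fun q hq => by
      have hinj := PrimeSpectrum.localization_comap_injective (Localization.Away b) (Submonoid.powers b)
      have hqm : q.asIdeal.comap (algebraMap B _) ∈ minimalPrimes B := by
        refine ⟨⟨inferInstance, bot_le⟩, fun p hp hpq => ?_⟩
        haveI := hp.1
        have hdisj : Disjoint (Submonoid.powers b : Set B) (p : Set B) := Set.disjoint_left.2 fun y ⟨n, hn⟩ hy => by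
          rw [← hn] at hy
          exact q.isPrime.ne_top (q.asIdeal.eq_top_of_isUnit_mem
            (show algebraMap B _ b ∈ q.asIdeal from hpq (hp.1.mem_of_pow_mem n hy))
            (IsLocalization.Away.algebraMap_isUnit b))
        have hp' := IsLocalization.isPrime_of_isPrime_disjoint (Submonoid.powers b) (Localization.Away b) p hp.1 hdisj
        have hcm := IsLocalization.under_map_of_isPrime_disjoint (Submonoid.powers b) (Localization.Away b) hp.1 hdisj
        have hle : p.map (algebraMap B (Localization.Away b)) ≤ q.asIdeal := Ideal.map_le_iff_le_comap.2 hpq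
        exact (Ideal.comap_mono (hq.2 ⟨hp', bot_le⟩ hle)).trans hcm.le
      have hbq : b ∉ q.asIdeal.comap (algebraMap B (Localization.Away b)) := fun hbm =>
        q.isPrime.ne_top (q.asIdeal.eq_top_of_isUnit_mem hbm (IsLocalization.Away.algebraMap_isUnit b))
      obtain ⟨x, hx⟩ : PrimeSpectrum.comap (algebraMap B (Localization.Away b)) q ∈
          Set.range (PrimeSpectrum.comap (algebraMap B (Localization.Away d))) := by
        rw [PrimeSpectrum.localization_away_comap_range (Localization.Away d) d]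
        exact hd _ hqm hbq
      refine ⟨x, hinj ?_⟩
      exact (congrArg (fun φ : _ ⟶ Spec B => φ x) hjb).trans hx
    have hRd : Dense ((p.left ⁻¹ᵁ D : R.left.Opens) ⊓ q.left ⁻¹ᵁ D : R.left.Opens).1 :=
      (hDd.preimage p.left.isOpenMap).inter_of_isOpen_left (hDd.preimage q.left.isOpenMap) (p.left ⁻¹ᵁ D).2
    let R' : R.left.Opens := p.left ⁻¹ᵁ D ⊓ q.left ⁻¹ᵁ D
    haveI : IsDominant R'.ι := ⟨by
      rw [DenseRange, Scheme.Opens.range_ι]; exact hRd⟩
    let lp := IsOpenImmersion.lift jb (R'.ι ≫ p.left) (by rintro _ ⟨x, rfl⟩; exact x.2.1)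
    let lq := IsOpenImmersion.lift jb (R'.ι ≫ q.left) (by rintro _ ⟨x, rfl⟩; exact x.2.2)
    have hlp : lp ≫ jb = R'.ι ≫ p.left := IsOpenImmersion.lift_fac _ _ _
    have hlq : lq ≫ jb = R'.ι ≫ q.left := IsOpenImmersion.lift_fac _ _ _
    have hwpq : p.left ≫ γ ≫ lineTo k = q.left ≫ γ ≫ lineTo k := by
      have e1 : (yon S).map p ≫ a₁ = (yon S).map q ≫ a₁ := by rw [← hl₁, reassoc_of% sqR.w]
      obtain ⟨h₁, he₁⟩ := (yon S).map_surjective (a₁ ≫ f)
      have h1 : h₁ = ob ≫ h := (yon S).map_injective (by rw [he₁, Functor.map_comp, he, Category.assoc])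
      have e2 : p ≫ h₁ = q ≫ h₁ := (yon S).map_injective (by
        rw [Functor.map_comp, Functor.map_comp, he₁, reassoc_of% e1])
      have e3 := congrArg CommaMorphism.left e2
      rw [h1] at e3
      rw [hγ, hψ]
      exact e3
    refine ext_of_isDominant_of_isSeparated (lineTo k) (f := p.left ≫ γ) (g := q.left ≫ γ)
      (by rw [Category.assoc, Category.assoc, hwpq]) R'.ι ?_
    rw [← reassoc_of% hlp, ← reassoc_of% hlq]
    refine H _ lp lq ?_
    suffices hWeq : lp ≫ ja ≫ cW = lq ≫ ja ≫ cW by rw [reassoc_of% hWeq]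
    rw [← cancel_mono W.ι]
    -- compare inside the scheme locus
    let c : ∀ r : (R' : Scheme.{u}) ⟶ Spec (CommRingCat.of (Localization.Away d)), (R' : Scheme.{u}) ⟶ M.left :=
      fun r => r ≫ ja ≫ cW ≫ W.ι
    have hc : ∀ (π : R ⟶ U₁) (r : (R' : Scheme.{u}) ⟶ Spec (CommRingCat.of (Localization.Away d))),
        r ≫ jb = R'.ι ≫ π.left → ∃ μ : Over.mk (R'.ι ≫ R.hom) ⟶ M,
          μ.left = c r ∧ (yon S).map μ ≫ jM = (yon S).map (Over.homMk R'.ι rfl : Over.mk (R'.ι ≫ R.hom) ⟶ R) ≫
            (yon S).map π ≫ a₁ := by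
      intro π r hr
      let v := r ≫ ja ≫ iW.inv ≫ (m.left ⁻¹ᵁ W).ι
      have hv : v ≫ O.ι = R'.ι ≫ π.left ≫ awayι b := by
        simp only [v, Category.assoc]
        rw [hWBι, hja, ← hjb, reassoc_of% hr]
      let ν : Over.mk (R'.ι ≫ R.hom) ⟶ Over.mk (O.ι ≫ u₀) := Over.homMk v (by
        show v ≫ O.ι ≫ u₀ = R'.ι ≫ R.hom
        rw [reassoc_of% hv]
        exact congrArg (R'.ι ≫ ·) (Over.w π))
      refine ⟨ν ≫ m, ?_, ?_⟩
      · show v ≫ m.left = c r
        simp only [v, c, Category.assoc, hcW]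
      · have e4 : ν ≫ oo = (Over.homMk R'.ι rfl : Over.mk (R'.ι ≫ R.hom) ⟶ R) ≫ π ≫ ob := Over.OverMorphism.ext hv
        rw [Functor.map_comp, Category.assoc, hmj, ← Functor.map_comp_assoc, e4, Functor.map_comp, Functor.map_comp,
          Category.assoc, Category.assoc]
    obtain ⟨μp, hμp, hμp'⟩ := hc p lp hlp
    obtain ⟨μq, hμq, hμq'⟩ := hc q lq hlq
    have : μp = μq := (yon S).map_injective ((cancel_mono jM).1 (by
      rw [hμp', hμq', ← hl₁, reassoc_of% sqR.w]))
    subst this
    have hcc : c lp = c lq := hμp.symm.trans hμq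
    simpa only [c, Category.assoc] using hcc
  haveI : LocallyOfFiniteType γ := by
    haveI : LocallyOfFiniteType (γ ≫ lineTo k) := by rw [hγ, hψ]; infer_instance
    exact locallyOfFiniteType_of_comp γ (lineTo k)
  have hFq : LocP (@LocallyQuasiFinite ⊓ @LocallyOfFiniteType) F :=
    locP_of_chart hl₁e hl₁s (repWith_id _ A) (h₀ := γ') (hF.trans (Category.comp_id _).symm)
      ⟨(inferInstanceAs (LocallyQuasiFinite γ)), (inferInstanceAs (LocallyOfFiniteType γ))⟩
  haveI : Sheaf.IsLocallySurjective l₁ := isLocallySurjective_of_repWith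
    (repWith_mono (fun _ _ g (_ : Etale g) => (inferInstance : Flat g)) hl₁e)
    (repWith_mono (fun _ _ g (_ : Etale g) => (inferInstance : LocallyOfFinitePresentation g)) hl₁e) hl₁s
  let tA : A ⟶ T := Over.homMk (lineTo k) rfl
  have hFT : F ≫ (yon S).map tA = openSubι X W' ≫ f := by
    rw [← cancel_epi l₁, reassoc_of% hF, reassoc_of% hl₁, ← Functor.map_comp]
    show _ = (yon S).map ob ≫ a ≫ f
    rw [← he, ← Functor.map_comp]
    congr 1
    refine Over.OverMorphism.ext ?_
    show γ ≫ lineTo k = awayι b ≫ h.left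
    rw [hγ, hψ]
  have hWA := isAlgSpace_openSub hX hW'
  have hFs : IsSeparatedMor F := isSeparatedMor_of_comp hWA (g := (yon S).map tA) (hFT ▸
    isSeparatedMor_comp (isSeparatedMor_of_repWith (repWith_mono
      (fun _ _ g (_ : IsOpenImmersion g) => (inferInstance : IsSeparated g)) (repWith_openSubι X hW'))) hsep)
  refine hz (Set.mem_sUnion.2 ⟨W', ⟨hW', isRepSh_of_sep_lqf hWA hFs hFq⟩, ?_⟩)
  obtain ⟨x, hx⟩ : (z : PrimeSpectrum B) ∈ Set.range (PrimeSpectrum.comap (algebraMap B (Localization.Away b))) := by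
    rw [PrimeSpectrum.localization_away_comap_range (Localization.Away b) b]
    exact hbz
  refine ⟨x, ?_⟩
  show Points.ofPt ((yon S).map ob ≫ a) x = _
  rw [ofPt_yon_comp]
  exact congrArg _ hx

/-- A separated algebraic space of dimension at most one over a field is a scheme. -/
theorem isRepSh_of_dim_le_one (hX : IsAlgSpace X) (hsep : IsSeparatedMor f)
    (hlft : LocP @LocallyOfFiniteType f) (hdim : CurvSt.RelDimLE 1 f) : IsRepSh X := by
  obtain ⟨Z, i, hZ, hi⟩ := AlgSpRegLib.exists_isRedInduced hX (Set.univ : Set (Points X)) isClosed_univ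
  have hs : RepWith @Surjective i := (repWith_surjective_iff hi.1.rep).2 fun x => by
    have : x ∈ Set.range (Points.map i) := hi.2.1 ▸ Set.mem_univ x
    exact this
  have ht : IsThickMor i :=
    ⟨hi.1.rep, fun T W g fst snd sq => ⟨hi.1.property g fst snd sq, hs.property g fst snd sq⟩⟩
  refine ThickQuotLib.isRepSh_of_thick hZ hX ht ?_
  have hisep : IsSeparatedMor i := isSeparatedMor_of_repWith
    (repWith_mono (fun _ _ g (_ : IsClosedImmersion g) => (inferInstance : IsSeparated g)) hi.1)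
  obtain ⟨V, φ, hφ, hφs⟩ := hX.atlas
  obtain ⟨hV, heV⟩ := (yon S).map_surjective (φ ≫ f)
  have hid : RepWith @Etale (𝟙 ((yon S).obj (Over.mk t))) := repWith_id _ _
  haveI : LocallyOfFiniteType hV.left := hlft φ (𝟙 _) hV hφ hid (heV.symm.trans (Category.comp_id _).symm)
  obtain ⟨Vz, g, ψ, sq⟩ : ∃ (Vz : Over S) (g : Vz ⟶ V) (ψ : (yon S).obj Vz ⟶ Z),
      IsPullback ((yon S).map g) ψ φ i :=
    ⟨_, hi.1.rep.snd φ, hi.1.rep.fst φ, (hi.1.rep.isPullback φ).flip⟩
  haveI : IsClosedImmersion g.left :=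
    (repWith_yon_map_iff (P := (@IsClosedImmersion : MorphismProperty Scheme.{u})) g).1 (repWith_of_isPullback sq.flip hi.1)
  have hψe : RepWith @Etale ψ := repWith_of_isPullback sq hφ
  have hψs : RepWith @Surjective ψ := repWith_of_isPullback sq hφs
  have ez : ψ ≫ i ≫ f = (yon S).map (g ≫ hV) := by
    rw [Functor.map_comp, heV, reassoc_of% sq.w]
  have hdimz : CurvSt.RelDimLE 1 (i ≫ f) := fun x => by
    obtain ⟨v, rfl⟩ := surjective_ofPt hψs x
    refine (hasAtMor_iff (etInv_fibreDim fun c => c ≤ ((1 : ℕ) : WithBot ℕ∞)) hψe hid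
      (ez.trans (Category.comp_id _).symm) v).2 ?_
    rw [fibreDimAt_eq_localDim, Nat.cast_one]
    exact localDim_le_one ((dimLEOne_chart hdim hφ hV heV.symm).of_injective g.left g.left.continuous
      g.left.isClosedEmbedding.injective) v
  have hlftz : LocP @LocallyOfFiniteType (i ≫ f) :=
    locP_of_chart hψe hψs hid (ez.trans (Category.comp_id _).symm)
      (inferInstanceAs (LocallyOfFiniteType (g.left ≫ hV.left)))
  have hzsep : IsSeparatedMor (i ≫ f) := isSeparatedMor_comp hisep hsep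
  -- the reduced space
  have huniv : schemeLocus Z = Set.univ := Set.eq_univ_of_forall fun x => by
    obtain ⟨κ, U, a, hU, ha, -, hcov⟩ := exists_affine_charts hZ
    obtain ⟨j, y, hy⟩ := hcov x
    obtain ⟨w, rfl⟩ := surjective_ofPt (repWith_id (@Surjective : MorphismProperty Scheme.{u}) (U j)) y
    rw [Points.map_ofPt, Category.id_comp] at hy
    subst hy
    haveI := hU j
    let e : Over.mk ((U j).left.isoSpec.inv ≫ (U j).hom) ≅ U j := Over.isoMk (U j).left.isoSpec.symm rfl
    have := core_point hZ hi.2.2 hzsep hlftz hdimz ((U j).left.isoSpec.inv ≫ (U j).hom) ((yon S).map e.hom ≫ a j)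
      (repWith_comp ((repWith_yon_map_iff (P := (@Etale : MorphismProperty Scheme.{u})) e.hom).2
        (inferInstanceAs (Etale (U j).left.isoSpec.inv))) (ha j)) ((U j).left.isoSpec.hom w)
    rw [ofPt_yon_comp] at this
    have he : e.hom.left ((U j).left.isoSpec.hom w) = w := by
      show (U j).left.isoSpec.inv ((U j).left.isoSpec.hom w) = w
      rw [← Scheme.Hom.comp_apply, Iso.hom_inv_id]; rfl
    rwa [he] at this
  haveI : IsIso (openSubι Z (schemeLocus Z)) := by
    refine isIso_of_openImmersion_surjective (repWith_openSubι Z (isOpen_schemeLocus Z)) fun x => ?_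
    exact (range_openSubι Z (W := schemeLocus Z)).ge (huniv ▸ Set.mem_univ x)
  exact (isRepSh_schemeLocus hZ).of_iso (asIso (openSubι Z (schemeLocus Z)))

end DimOneSep
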